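import Groth.Agent.Weighting.Piece

/-!
# Splitting pieces into pointed pieces
-/

set_option autoImplicit false

universe u

open CategoryTheory CategoryTheory.Limits AlgebraicGeometry IsLocalRing Topology

namespace Groth.Agent.Weighting

variable {X Y V W : Scheme.{u}} {f : X ⟶ Y} {g : V ⟶ Y} {j : W ⟶ X} {q : W ⟶ V}
  {K : Type u} [Field K] [IsAlgClosed K]

/-- Finitely many geometric points have a common étale neighbourhood with pointed pieces. -/
theorem exists_common_nbhd (f : X ⟶ Y) [LocallyQuasiFinite f] [LocallyOfFiniteType f]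
    {ι : Type*} (x : ι → (Spec (.of K) ⟶ X)) (y : Spec (.of K) ⟶ Y) (hx : ∀ i, x i ≫ f = y)
    (s : Finset ι) :
    ∃ (V : Scheme.{u}) (g : V ⟶ Y) (_ : Etale g) (v : Spec (.of K) ⟶ V), v ≫ g = y ∧
      ∀ i ∈ s, ∃ (W : Scheme.{u}) (j : W ⟶ X) (q : W ⟶ V),
        IsPiece f g j q ∧ IsPointed j q v (x i) := by
  classical
  induction s using Finset.induction_on with
  | empty => exact ⟨Y, 𝟙 Y, inferInstance, y, Category.comp_id y, by simp⟩
  | insert a s ha ih =>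
    obtain ⟨V, g, _, v, hv, hs⟩ := ih
    obtain ⟨V₁, W₁, g₁, _, j₁, q₁, h, ho, hf, v₁, z, hz, huniq⟩ := exists_pointed_nbhd f (x a)
    have hp₁ : IsPiece f g₁ j₁ q₁ := ⟨h, ho, hf⟩
    have hv₁ : v₁ ≫ g₁ = y := by
      rw [← z.2, Category.assoc, ← h, ← Category.assoc, hz, hx]
    let v₂ := pullback.lift v v₁ (hv.trans hv₁.symm)
    refine ⟨pullback g g₁, pullback.fst g g₁ ≫ g, inferInstance, v₂, ?_, fun i hi ↦ ?_⟩
    · simp [v₂, pullback.lift_fst_assoc, hv]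
    · rcases Finset.mem_insert.mp hi with rfl | hi
      · refine ⟨_, _, _, ?_, IsPointed.baseChange ⟨z, hz, huniq⟩
          (IsPullback.of_hasPullback q₁ (pullback.snd g g₁)) (pullback.lift_snd _ _ _)⟩
        rw [pullback.condition]
        exact hp₁.baseChange (IsPullback.of_hasPullback _ _)
      · obtain ⟨W, j, q, hp, hpt⟩ := hs i hi
        exact ⟨_, _, _, hp.baseChange (IsPullback.of_hasPullback q (pullback.fst g g₁)),
          hpt.baseChange (IsPullback.of_hasPullback q (pullback.fst g g₁)) (pullback.lift_fst _ _ _)⟩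

/-- A finite morphism splits, étale locally around a geometric point of the base, into pieces with
one geometric point each. -/
theorem exists_split (q : W ⟶ V) [IsFinite q] (y : Spec (.of K) ⟶ V) :
    ∃ (V' W' : Scheme.{u}) (h : V' ⟶ V) (_ : Etale h) (y' : Spec (.of K) ⟶ V')
      (h' : W' ⟶ W) (q' : W' ⟶ V') (O : GPts q y → W'.Opens),
      IsPullback h' q' q h ∧ y' ≫ h = y ∧ (∀ u, ∃! i, u ∈ O i) ∧
      ∀ i, IsFinite ((O i).ι ≫ q') ∧ IsPointed ((O i).ι ≫ h') ((O i).ι ≫ q') y' i.1 := by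
  classical
  have := finite_gpts q y (q.finite_preimage_singleton _)
  let := Fintype.ofFinite (GPts q y)
  obtain ⟨V₁, h₁, _, y₁, hy₁, hpieces⟩ :=
    exists_common_nbhd q (fun i : GPts q y ↦ i.1) y (fun i ↦ i.2) Finset.univ
  choose Wi ji qi hp hpt using fun i ↦ hpieces i (Finset.mem_univ i)
  let W₁ := pullback q h₁
  let q₁ : W₁ ⟶ V₁ := pullback.snd q h₁
  let k : ∀ i, Wi i ⟶ W₁ := fun i ↦ pullback.lift (ji i) (qi i) (hp i).w
  have : ∀ i, IsOpenImmersion (k i) := fun i ↦ (hp i).isOpenImmersion_lift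
  have : ∀ i, IsFinite (qi i) := fun i ↦ (hp i).isFinite
  let R : GPts q y → W₁.Opens := fun i ↦ (k i).opensRange
  have hkq : ∀ i, (k i).isoOpensRange.hom ≫ (R i).ι ≫ q₁ = qi i := fun i ↦ by
    simp [R, k, q₁, pullback.lift_snd]
  have hkj : ∀ i, (k i).isoOpensRange.hom ≫ (R i).ι ≫ pullback.fst q h₁ = ji i := fun i ↦ by
    simp [R, k, pullback.lift_fst]
  have hfin : ∀ i, IsFinite ((R i).ι ≫ q₁) := fun i ↦ by
    rw [← MorphismProperty.cancel_left_of_respectsIso @IsFinite (k i).isoOpensRange.hom, hkq]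
    infer_instance
  have hRpt : ∀ i, IsPointed ((R i).ι ≫ pullback.fst q h₁) ((R i).ι ≫ q₁) y₁ i.1 := fun i ↦ by
    have hsq : IsPullback (k i).isoOpensRange.inv ((R i).ι ≫ q₁) (qi i) (𝟙 V₁) :=
      .of_horiz_isIso ⟨by rw [Category.comp_id, ← hkq, Iso.inv_hom_id_assoc]⟩
    convert (hpt i).baseChange hsq (Category.comp_id y₁) using 1
    rw [← hkj, Iso.inv_hom_id_assoc]
  have hclosed : ∀ i, IsClosed (R i : Set W₁) := fun i ↦ by
    have : IsFinite ((R i).ι ≫ q₁) := hfin i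
    have : IsFinite (R i).ι := .of_comp _ q₁
    simpa using (R i).ι.isClosedMap.isClosed_range
  let bad : Set W₁ := (⋃ i, (R i : Set W₁))ᶜ ∪
    ⋃ p : {p : GPts q y × GPts q y // p.1 ≠ p.2}, (R p.1.1 : Set W₁) ∩ R p.1.2
  have hbad : IsClosed (q₁ '' bad) := q₁.isClosedMap _
    ((isOpen_iUnion fun i ↦ (R i).2).isClosed_compl.union
      (isClosed_iUnion_of_finite fun p ↦ (hclosed _).inter (hclosed _)))
  let V₀ : V₁.Opens := ⟨(q₁ '' bad)ᶜ, hbad.isOpen_compl⟩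
  have hlift : ∀ i u, q₁ u = pt y₁ → u ∈ R i → ∃ z : GPts q₁ y₁, pt z.1 = u ∧
      z.1 ≫ pullback.fst q h₁ = i.1 := by
    intro i u hu hui
    have : IsFinite ((R i).ι ≫ q₁) := hfin i
    obtain ⟨z, hz, hzu⟩ := (hRpt i).eq_pt (u := ⟨u, hui⟩) (by simpa using hu)
    refine ⟨⟨z.1 ≫ (R i).ι, by rw [Category.assoc, z.2]⟩, ?_, by simpa using hz⟩
    exact congrArg (R i).ι hzu
  have hmem : pt y₁ ∈ V₀ := by
    rintro ⟨u, hu | hu, hqu⟩
    · obtain ⟨z, rfl⟩ := exists_lift q₁ y₁ u hqu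
      let i : GPts q y := ⟨z.1 ≫ pullback.fst q h₁, by
        rw [Category.assoc, pullback.condition, reassoc_of% z.2, hy₁]⟩
      obtain ⟨z', hz', -⟩ := hRpt i
      have : z.1 = z'.1 ≫ (R i).ι := by
        apply pullback.hom_ext
        · simpa using hz'.symm
        · rw [z.2, Category.assoc]; exact z'.2.symm
      exact hu (Set.mem_iUnion.mpr ⟨i, by rw [this]; exact
        (pt z'.1).2⟩)
    · obtain ⟨⟨⟨i, l⟩, hil⟩, hui, hul⟩ := Set.mem_iUnion.mp hu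
      obtain ⟨z, hzu, hzi⟩ := hlift i u hqu hui
      obtain ⟨z', hzu', hzl⟩ := hlift l u hqu hul
      obtain ⟨w, hw, huniq⟩ := hRpt i
      have h1 : ∀ a : GPts q₁ y₁, pt a.1 = u → a.1 = w.1 ≫ (R i).ι := by
        intro a ha
        let a' : Spec (.of K) ⟶ R i := IsOpenImmersion.lift (R i).ι a.1 (by
          rintro _ ⟨p, rfl⟩
          rw [Subsingleton.elim (α := PrimeSpectrum K) p (closedPoint K), Scheme.Opens.range_ι]
          show pt a.1 ∈ (R i : Set W₁)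
          rw [ha]
          exact hui)
        have := huniq ⟨a', by rw [IsOpenImmersion.lift_fac_assoc, a.2]⟩
        rw [← congr(Subtype.val $this), IsOpenImmersion.lift_fac]
      refine hil (Subtype.ext ?_)
      show i.1 = l.1
      rw [← hzi, ← hzl, h1 z hzu, h1 z' hzu']
  let y' : Spec (.of K) ⟶ V₀ := IsOpenImmersion.lift V₀.ι y₁ (by
    rintro _ ⟨p, rfl⟩
    rw [Subsingleton.elim (α := PrimeSpectrum K) p (closedPoint K), Scheme.Opens.range_ι]
    exact hmem)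
  refine ⟨V₀, q₁ ⁻¹ᵁ V₀, V₀.ι ≫ h₁, inferInstance, y',
    (q₁ ⁻¹ᵁ V₀).ι ≫ pullback.fst q h₁, q₁ ∣_ V₀, fun i ↦ (q₁ ⁻¹ᵁ V₀).ι ⁻¹ᵁ R i,
    (isPullback_morphismRestrict q₁ V₀).flip.paste_horiz (IsPullback.of_hasPullback q h₁),
    by rw [IsOpenImmersion.lift_fac_assoc, hy₁], fun u ↦ ?_, fun i ↦ ?_⟩
  · have hu : (u.1 : W₁) ∉ bad := fun h ↦ u.2 ⟨u.1, h, rfl⟩
    rw [Set.mem_union, not_or, Set.mem_compl_iff, not_not] at hu
    obtain ⟨i, hi⟩ := Set.mem_iUnion.mp hu.1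
    refine ⟨i, hi, fun l hl ↦ ?_⟩
    by_contra hne
    exact hu.2 (Set.mem_iUnion.mpr ⟨⟨(l, i), hne⟩, hl, hi⟩)
  · have hsq : IsPullback ((q₁ ⁻¹ᵁ V₀).ι ∣_ R i) (((q₁ ⁻¹ᵁ V₀).ι ⁻¹ᵁ R i).ι ≫ q₁ ∣_ V₀)
        ((R i).ι ≫ q₁) V₀.ι :=
      (isPullback_morphismRestrict (q₁ ⁻¹ᵁ V₀).ι (R i)).paste_vert
        (isPullback_morphismRestrict q₁ V₀).flip
    refine ⟨MorphismProperty.of_isPullback (P := @IsFinite) hsq (hfin i), ?_⟩
    convert (hRpt i).baseChange hsq (y' := y') (IsOpenImmersion.lift_fac ..) using 1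
    rw [morphismRestrict_ι_assoc]

/-- A piece is, étale locally around a geometric point, a disjoint union of pointed pieces. -/
theorem IsPiece.exists_decomposition (hp : IsPiece f g j q) (y : Spec (.of K) ⟶ V) :
    ∃ (V' : Scheme.{u}) (h : V' ⟶ V) (_ : Etale h) (y' : Spec (.of K) ⟶ V'), y' ≫ h = y ∧
      ∃ (O : GPts q y → Scheme.{u}) (jO : ∀ i, O i ⟶ X) (qO : ∀ i, O i ⟶ V'),
        (∀ i, IsPiece f (h ≫ g) (jO i) (qO i) ∧ IsPointed (jO i) (qO i) y' (i.1 ≫ j)) ∧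
        (∀ i, ∃ e : O i ⟶ W, e ≫ q = qO i ≫ h ∧ e ≫ j = jO i) ∧
        ∀ (w : X → ℤ) (v : V'), MoreMor.fibreIntegral q (fun u ↦ w (j u)) (h v) =
          ∑ᶠ i, MoreMor.fibreIntegral (qO i) (fun u ↦ w (jO i u)) v := by
  have := hp.isFinite
  have := finite_gpts q y (q.finite_preimage_singleton _)
  obtain ⟨V', W', h, _, y', h', q', O, hsq, hy', hcov, hO⟩ := exists_split q y
  have hp' := hp.baseChange hsq
  refine ⟨V', h, inferInstance, y', hy', fun i ↦ O i, fun i ↦ (O i).ι ≫ h' ≫ j,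
    fun i ↦ (O i).ι ≫ q', fun i ↦ ⟨?_, ?_⟩, fun i ↦ ⟨(O i).ι ≫ h', ?_, Category.assoc _ _ _⟩,
    fun w v ↦ ?_⟩
  · have := (hO i).1
    exact hp'.openSub (O i).ι
  · obtain ⟨z, hz, huniq⟩ := (hO i).2
    exact ⟨z, (by rw [← hz]; simp : z.1 ≫ (O i).ι ≫ h' ≫ j = i.1 ≫ j), huniq⟩
  · rw [Category.assoc, hsq.w, Category.assoc]
  · have := hp'.isFinite
    rw [← fibreIntegral_isPullback hsq _ v (q.finite_preimage_singleton _)]
    have : ∀ i, LocallyQuasiFinite ((O i).ι ≫ q') := fun i ↦ by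
      have := (hO i).1
      infer_instance
    refine (fibreIntegral_eq_sum_opens q' O _ v (q'.finite_preimage_singleton _)
      fun u _ ↦ hcov u).trans (finsum_congr fun i ↦ ?_)
    congr 1

end Groth.Agent.Weighting
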