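import Groth.Agent.Weighting.GeomPoints

/-!
# Functoriality of fibre integrals: base change, composition, open subschemes
-/

set_option autoImplicit false

universe u

open CategoryTheory CategoryTheory.Limits AlgebraicGeometry IsLocalRing

namespace Groth.Agent.Weighting

variable {U V : Scheme.{u}} {K : Type u} [Field K]

lemma finite_fibre_of_finite_gpts [IsAlgClosed K] (π : U ⟶ V) [LocallyQuasiFinite π]
    (y : Spec (.of K) ⟶ V) [Finite (GPts π y)] : (π ⁻¹' {pt y}).Finite := by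
  refine (Set.finite_range fun x : GPts π y ↦ pt x.1).subset fun u hu ↦ ?_
  obtain ⟨x, hx⟩ := exists_lift π y u hu
  exact ⟨x, hx⟩

/-- Geometric points of a base change. -/
noncomputable def GPts.pullbackEquiv {U' V' : Scheme.{u}} {π : U ⟶ V} {π' : U' ⟶ V'}
    {h : U' ⟶ U} {g : V' ⟶ V} (hc : IsPullback h π' π g) (y' : Spec (.of K) ⟶ V') :
    GPts π' y' ≃ GPts π (y' ≫ g) where
  toFun x := ⟨x.1 ≫ h, by rw [Category.assoc, hc.w, ← Category.assoc, x.2]⟩
  invFun x := ⟨hc.lift x.1 y' x.2, hc.lift_snd _ _ _⟩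
  left_inv x := Subtype.ext (hc.hom_ext (hc.lift_fst _ _ _)
    ((hc.lift_snd _ _ _).trans x.2.symm))
  right_inv x := Subtype.ext (hc.lift_fst _ _ _)

/-- Geometric points of a composition. -/
noncomputable def GPts.compEquiv {W : Scheme.{u}} (π : U ⟶ V) (ρ : V ⟶ W) (z : Spec (.of K) ⟶ W) :
    GPts (π ≫ ρ) z ≃ Σ y : GPts ρ z, GPts π y.1 where
  toFun x := ⟨⟨x.1 ≫ π, by rw [Category.assoc, x.2]⟩, ⟨x.1, rfl⟩⟩
  invFun p := ⟨p.2.1, by rw [← Category.assoc, p.2.2, p.1.2]⟩
  left_inv x := rfl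
  right_inv := by
    rintro ⟨⟨y, hy⟩, ⟨x, hx⟩⟩
    obtain rfl : x ≫ π = y := hx
    rfl

/-- Geometric points of an open subscheme. -/
noncomputable def GPts.openEquiv {W : Scheme.{u}} (j : W ⟶ U) [IsOpenImmersion j] (π : U ⟶ V)
    (y : Spec (.of K) ⟶ V) :
    GPts (j ≫ π) y ≃ {x : GPts π y // pt x.1 ∈ Set.range j} where
  toFun x := ⟨⟨x.1 ≫ j, by rw [Category.assoc, x.2]⟩, ⟨pt x.1, rfl⟩⟩
  invFun x := ⟨IsOpenImmersion.lift j x.1.1 (by
      rintro _ ⟨p, rfl⟩
      rw [Subsingleton.elim (α := PrimeSpectrum K) p (closedPoint K)]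
      exact x.2), by rw [IsOpenImmersion.lift_fac_assoc]; exact x.1.2⟩
  left_inv x := Subtype.ext ((cancel_mono j).mp (IsOpenImmersion.lift_fac ..))
  right_inv x := Subtype.ext (Subtype.ext (IsOpenImmersion.lift_fac ..))

variable [IsAlgClosed K]

theorem fibreIntegral_isPullback {U' V' : Scheme.{u}} {π : U ⟶ V} [LocallyQuasiFinite π]
    {π' : U' ⟶ V'} [LocallyQuasiFinite π'] {h : U' ⟶ U} {g : V' ⟶ V}
    (hc : IsPullback h π' π g) (w : U → ℤ) (v' : V') (hfin : (π ⁻¹' {g v'}).Finite) :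
    MoreMor.fibreIntegral π' (fun u ↦ w (h u)) v' = MoreMor.fibreIntegral π w (g v') := by
  obtain ⟨K, _, _, y', rfl⟩ := exists_geomPoint v'
  let e := GPts.pullbackEquiv hc y'
  have := finite_gpts π (y' ≫ g) hfin
  have : Finite (GPts π' y') := Finite.of_equiv _ e.symm
  rw [fibreIntegral_eq π' _ y' _ rfl (finite_fibre_of_finite_gpts π' y'),
    fibreIntegral_eq π w (y' ≫ g) (g (pt y')) rfl hfin]
  exact finsum_eq_of_bijective e e.bijective fun x ↦ rfl

open Classical in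
theorem fibreIntegral_open {W : Scheme.{u}} (j : W ⟶ U) [IsOpenImmersion j] (π : U ⟶ V)
    [LocallyQuasiFinite π] [LocallyQuasiFinite (j ≫ π)] (w : U → ℤ) (y : Spec (.of K) ⟶ V)
    (hfin : (π ⁻¹' {pt y}).Finite) :
    MoreMor.fibreIntegral (j ≫ π) (fun u ↦ w (j u)) (pt y) =
      ∑ᶠ x : GPts π y, if pt x.1 ∈ Set.range j then w (pt x.1) else 0 := by
  let e := GPts.openEquiv j π y
  have := finite_gpts π y hfin
  have : Finite (GPts (j ≫ π) y) := Finite.of_equiv _ e.symm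
  rw [fibreIntegral_eq (j ≫ π) _ y _ rfl (finite_fibre_of_finite_gpts _ y)]
  refine Eq.trans (b := ∑ᶠ x : {x : GPts π y // pt x.1 ∈ Set.range j}, w (pt x.1.1))
    (finsum_eq_of_bijective e e.bijective fun x ↦ rfl) ?_
  exact (finsum_subtype_eq_finsum_cond (f := fun x : GPts π y ↦ w (pt x.1))
    (fun x ↦ pt x.1 ∈ Set.range j)).trans (finsum_congr fun x ↦ finsum_eq_if)

/-- Fibre integrals add up over a family of opens partitioning a fibre. -/
theorem fibreIntegral_eq_sum_opens {ι : Type*} [Finite ι] (π : U ⟶ V) [LocallyQuasiFinite π]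
    (W : ι → U.Opens) [∀ i, LocallyQuasiFinite ((W i).ι ≫ π)] (w : U → ℤ) (v : V)
    (hfin : (π ⁻¹' {v}).Finite) (hW : ∀ u, π u = v → ∃! i, u ∈ W i) :
    MoreMor.fibreIntegral π w v =
      ∑ᶠ i, MoreMor.fibreIntegral ((W i).ι ≫ π) (fun u ↦ w ((W i).ι u)) v := by
  classical
  obtain ⟨K, _, _, y, rfl⟩ := exists_geomPoint v
  have := finite_gpts π y hfin
  let := Fintype.ofFinite (GPts π y)
  let := Fintype.ofFinite ι
  simp only [fibreIntegral_open (W _).ι π w y hfin, finsum_eq_sum_of_fintype]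
  rw [fibreIntegral_eq π w y _ rfl hfin, finsum_eq_sum_of_fintype, Finset.sum_comm]
  refine Finset.sum_congr rfl fun x _ ↦ ?_
  obtain ⟨i, hi, huniq⟩ := hW _ x.map_pt
  rw [Finset.sum_eq_single i]
  · rw [if_pos (by simpa [Scheme.Opens.range_ι] using hi)]
  · intro j _ hj
    rw [if_neg fun h ↦ hj (huniq j (by simpa [Scheme.Opens.range_ι] using h))]
  · simp

/-- If exactly one geometric point lies over `y`, the fibre integral is its weight. -/
theorem fibreIntegral_of_unique (π : U ⟶ V) [LocallyQuasiFinite π] (w : U → ℤ)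
    (y : Spec (.of K) ⟶ V) (x : GPts π y) (hx : ∀ x' : GPts π y, x' = x) :
    MoreMor.fibreIntegral π w (pt y) = w (pt x.1) := by
  have : Subsingleton (GPts π y) := ⟨fun a b ↦ (hx a).trans (hx b).symm⟩
  rw [fibreIntegral_eq π w y _ rfl (finite_fibre_of_finite_gpts π y),
    finsum_eq_single _ x fun b hb ↦ (hb (hx b)).elim]

end Groth.Agent.Weighting
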