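import Groth.Agent.Weighting.EtaleNbhd
import Groth.Agent.Weighting.GPts
import Mathlib.AlgebraicGeometry.ZariskisMainTheorem

/-!
# Étale neighbourhoods isolating a geometric point of a locally quasi-finite morphism
-/

set_option autoImplicit false

universe u

open CategoryTheory CategoryTheory.Limits AlgebraicGeometry IsLocalRing TensorProduct

namespace Groth.Agent.Weighting

attribute [local instance] RingHom.ker_isPrime

set_option backward.isDefEq.respectTransparency false in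
/-- Étale neighbourhoods isolating a geometric point. -/
theorem exists_pointed_nbhd {X Y : Scheme.{u}} (f : X ⟶ Y) [LocallyQuasiFinite f]
    [LocallyOfFiniteType f] {K : Type u} [Field K] [IsAlgClosed K] (x : Spec (.of K) ⟶ X) :
    ∃ (V W : Scheme.{u}) (g : V ⟶ Y) (_ : Etale g) (j : W ⟶ X) (q : W ⟶ V)
      (h : j ≫ f = q ≫ g), IsOpenImmersion (pullback.lift j q h) ∧ IsFinite q ∧
      ∃ (v : Spec (.of K) ⟶ V) (x₁ : GPts q v), x₁.1 ≫ j = x ∧ ∀ x' : GPts q v, x' = x₁ := by
  obtain ⟨Y₀, hY₀, hyY, -⟩ := TopologicalSpace.Opens.isBasis_iff_nbhd.mp Y.isBasis_affineOpens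
    (show f (pt x) ∈ (⊤ : Y.Opens) from trivial)
  let U : Y.Opens := Y₀
  have hU : IsAffineOpen U := hY₀
  obtain ⟨X₀, hX₀, hxX, hle⟩ := TopologicalSpace.Opens.isBasis_iff_nbhd.mp X.isBasis_affineOpens
    (show pt x ∈ f ⁻¹ᵁ U from hyY)
  let V : X.Opens := X₀
  have hV : IsAffineOpen V := hX₀
  have hUV : V ≤ f ⁻¹ᵁ U := hle
  let x₀ : Spec (.of K) ⟶ Spec Γ(X, V) := IsOpenImmersion.lift hV.fromSpec x <| by
    rintro _ ⟨p, rfl⟩
    rw [Subsingleton.elim (α := PrimeSpectrum K) p (closedPoint K), hV.range_fromSpec]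
    exact hxX
  have hx₀ : x₀ ≫ hV.fromSpec = x := IsOpenImmersion.lift_fac ..
  obtain ⟨χ, hχ⟩ := Spec.map_surjective x₀
  let φU := f.appLE U V hUV
  have : φU.hom.FiniteType := f.finiteType_appLE hU hV hUV
  have hqf : φU.hom.QuasiFinite := LocallyQuasiFinite.quasiFinite_appLE hU hV hUV
  algebraize [φU.hom]
  let _ : Algebra Γ(Y, U) K := (χ.hom.comp φU.hom).toAlgebra
  let xa : Γ(X, V) →ₐ[Γ(Y, U)] K := { toRingHom := χ.hom, commutes' := fun r ↦ rfl }
  have : Algebra.QuasiFinite Γ(Y, U) Γ(X, V) := hqf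
  have : Algebra.QuasiFiniteAt Γ(Y, U) (RingHom.ker xa.toRingHom) := inferInstance
  obtain ⟨R, _, _, _, v, e, -, hfin, hex, huniq⟩ := exists_etale_nbhd_algHom xa
  have hfin' : (algebraMap R (Localization.Away e)).Finite := RingHom.finite_algebraMap.mpr hfin
  let φ : Γ(Y, U) ⟶ .of R := CommRingCat.ofHom <| algebraMap Γ(Y, U) R
  have hφ : φ.hom.Etale := RingHom.etale_algebraMap.mpr ‹_›
  have : Etale (Spec.map φ) := HasRingHomProperty.Spec_iff.mpr hφ
  let e₁ : Spec (.of (R ⊗[Γ(Y, U)] Γ(X, V))) ≅ pullback (Spec.map φU) (Spec.map φ) :=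
    (pullbackSpecIso _ _ _).symm ≪≫ pullbackSymmetry _ _
  have he₁ : e₁.hom ≫ pullback.fst _ _ =
      Spec.map (CommRingCat.ofHom Algebra.TensorProduct.includeRight.toRingHom) := by
    dsimp [e₁, RingHom.algebraMap_toAlgebra]
    rw [Category.assoc, pullbackSymmetry_hom_comp_fst]
    exact pullbackSpecIso_inv_snd ..
  have he₂ : e₁.hom ≫ pullback.snd _ _ =
      Spec.map (CommRingCat.ofHom (algebraMap R (R ⊗[Γ(Y, U)] Γ(X, V)))) := by
    dsimp [e₁, RingHom.algebraMap_toAlgebra]
    rw [Category.assoc, pullbackSymmetry_hom_comp_snd]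
    exact pullbackSpecIso_inv_fst ..
  let m : Spec (.of (R ⊗[Γ(Y, U)] Γ(X, V))) ⟶ pullback f (Spec.map φ ≫ hU.fromSpec) :=
    e₁.hom ≫ pullback.map _ _ _ _ hV.fromSpec (𝟙 _) hU.fromSpec
      (IsAffineOpen.SpecMap_appLE_fromSpec ..) (by simp)
  let loc : Spec (.of (Localization.Away e)) ⟶ Spec (.of (R ⊗[Γ(Y, U)] Γ(X, V))) :=
    Spec.map (CommRingCat.ofHom (algebraMap _ _))
  let j : Spec (.of (Localization.Away e)) ⟶ X :=
    loc ≫ Spec.map (CommRingCat.ofHom Algebra.TensorProduct.includeRight.toRingHom) ≫ hV.fromSpec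
  let q : Spec (.of (Localization.Away e)) ⟶ Spec (.of R) :=
    loc ≫ Spec.map (CommRingCat.ofHom (algebraMap R (R ⊗[Γ(Y, U)] Γ(X, V))))
  have hm₁ : m ≫ pullback.fst _ _ =
      Spec.map (CommRingCat.ofHom Algebra.TensorProduct.includeRight.toRingHom) ≫ hV.fromSpec := by
    simp [m, reassoc_of% he₁]
  have hm₂ : m ≫ pullback.snd _ _ =
      Spec.map (CommRingCat.ofHom (algebraMap R (R ⊗[Γ(Y, U)] Γ(X, V)))) := by
    simp [m, he₂]
  have hw : j ≫ f = q ≫ Spec.map φ ≫ hU.fromSpec := by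
    simp only [j, q, ← hm₁, ← hm₂, Category.assoc, pullback.condition]
  have hq : q = Spec.map (CommRingCat.ofHom (algebraMap R (Localization.Away e))) := by
    simp only [q, loc, ← Spec.map_comp, ← CommRingCat.ofHom_comp, ← IsScalarTower.algebraMap_eq]
  refine ⟨Spec (.of R), Spec (.of (Localization.Away e)), Spec.map φ ≫ hU.fromSpec, inferInstance,
    j, q, hw, ?_, ?_, ?_⟩
  · have hl : pullback.lift j q hw = loc ≫ m := by
      apply pullback.hom_ext <;> simp [j, q, hm₁, hm₂]
    have : IsOpenImmersion m := by dsimp only [m]; infer_instance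
    have : IsOpenImmersion loc := IsOpenImmersion.of_isLocalization e
    rw [hl]
    infer_instance
  · rw [hq, IsFinite.SpecMap_iff (CommRingCat.ofHom (algebraMap R (Localization.Away e)))]
    exact hfin'
  let l : R ⊗[Γ(Y, U)] Γ(X, V) →+* K :=
    (Algebra.TensorProduct.lift v xa fun _ _ ↦ .all _ _).toRingHom
  let l' : Localization.Away e →+* K :=
    IsLocalization.Away.lift e (g := l) (isUnit_iff_ne_zero.mpr hex)
  have hl' : l'.comp (algebraMap _ _) = l := IsLocalization.Away.lift_comp _ _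
  let x₁ : GPts q (Spec.map (CommRingCat.ofHom v.toRingHom)) :=
    ⟨Spec.map (CommRingCat.ofHom l'), by
      rw [hq, ← Spec.map_comp, ← CommRingCat.ofHom_comp,
        IsScalarTower.algebraMap_eq R (R ⊗[Γ(Y, U)] Γ(X, V)), ← RingHom.comp_assoc, hl']
      congr 2
      ext r
      simp [l]⟩
  refine ⟨_, x₁, ?_, fun x' ↦ ?_⟩
  · have hχ' : CommRingCat.ofHom Algebra.TensorProduct.includeRight.toRingHom ≫
        CommRingCat.ofHom (algebraMap (R ⊗[Γ(Y, U)] Γ(X, V)) (Localization.Away e)) ≫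
          CommRingCat.ofHom l' = χ := by
      refine CommRingCat.hom_ext (RingHom.ext fun a ↦ ?_)
      show l' (algebraMap _ _ ((1 : R) ⊗ₜ a)) = χ.hom a
      rw [← RingHom.comp_apply, hl']
      simp [l, xa]
    rw [← hx₀, ← hχ, ← hχ', Spec.map_comp, Spec.map_comp, Category.assoc, Category.assoc]
  · obtain ⟨a, ha⟩ := x'
    obtain ⟨χ', rfl⟩ := Spec.map_surjective a
    rw [hq, ← Spec.map_comp] at ha
    have hR : χ'.hom.comp (algebraMap R (Localization.Away e)) = v.toRingHom :=
      congr(CommRingCat.Hom.hom $(Spec.map_injective ha))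
    have hR' : ∀ r : R, χ'.hom (algebraMap _ (Localization.Away e)
        (r ⊗ₜ[Γ(Y, U)] (1 : Γ(X, V)))) = v r := fun r ↦ congr($hR r)
    let x'' : Γ(X, V) →ₐ[Γ(Y, U)] K :=
      { toRingHom := χ'.hom.comp ((algebraMap (R ⊗[Γ(Y, U)] Γ(X, V)) (Localization.Away e)).comp
          (Algebra.TensorProduct.includeRight : Γ(X, V) →ₐ[Γ(Y, U)] R ⊗[Γ(Y, U)] Γ(X, V)).toRingHom)
        commutes' := fun r ↦ by
          refine Eq.trans ?_ (v.commutes r)
          rw [← hR']
          simp [Algebra.TensorProduct.tmul_one_eq_one_tmul] }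
    have hcomp : (Algebra.TensorProduct.lift v x'' fun _ _ ↦ .all _ _).toRingHom =
        χ'.hom.comp (algebraMap _ (Localization.Away e)) := by
      refine RingHom.ext fun z ↦ ?_
      induction z using TensorProduct.induction_on with
      | zero => simp
      | add a b ha hb => simp only [map_add, ha, hb]
      | tmul r s =>
        rw [AlgHom.toRingHom_eq_coe, RingHom.coe_coe, Algebra.TensorProduct.lift_tmul,
          RingHom.comp_apply, show r ⊗ₜ[Γ(Y, U)] s = (r ⊗ₜ 1) * (1 ⊗ₜ s) by simp, map_mul, map_mul,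
          hR']
        rfl
    have hx'' : x'' = xa := huniq x'' <| by
      have := congr($hcomp e)
      simp only [AlgHom.toRingHom_eq_coe, RingHom.coe_coe, RingHom.comp_apply] at this
      rw [this]
      exact ((IsLocalization.Away.algebraMap_isUnit e).map χ'.hom).ne_zero
    refine Subtype.ext ?_
    show Spec.map χ' = Spec.map (CommRingCat.ofHom l')
    congr 1
    refine CommRingCat.hom_ext (IsLocalization.ringHom_ext (Submonoid.powers e) ?_)
    show χ'.hom.comp (algebraMap _ _) = l'.comp (algebraMap _ _)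
    rw [hl', ← hcomp, hx'']

end Groth.Agent.Weighting
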