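import Groth.Agent.Weighting.Nbhd
import Mathlib.LinearAlgebra.LinearIndependent.Lemmas
import Mathlib.FieldTheory.IsSepClosed
import Mathlib.Data.Set.Card.Arithmetic

/-!
# Number of geometric points of locally quasi-finite morphisms
-/

set_option autoImplicit false

universe u

open CategoryTheory CategoryTheory.Limits AlgebraicGeometry IsLocalRing

namespace Groth.Agent.Weighting

/-- An algebra generated as a module by `m` elements has at most `m` points in a field. -/
lemma finite_algHom_and_card_le {R S K : Type u} [CommRing R] [CommRing S] [Algebra R S] [Field K]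
    [Algebra R K] {m : ℕ} (c : Fin m → S) (hc : Submodule.span R (Set.range c) = ⊤) :
    Finite (S →ₐ[R] K) ∧ Nat.card (S →ₐ[R] K) ≤ m := by
  let Φ : (S →ₗ[R] K) →ₗ[K] (Fin m → K) :=
    { toFun := fun φ i ↦ φ (c i)
      map_add' := fun _ _ ↦ rfl
      map_smul' := fun _ _ ↦ rfl }
  have hΦ : LinearMap.ker Φ = ⊥ := by
    refine LinearMap.ker_eq_bot'.mpr fun φ hφ ↦ LinearMap.ext_on_range hc fun i ↦ ?_
    exact congr($hφ i)
  have hli := (linearIndependent_algHom_toLinearMap R S K).map' Φ hΦ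
  have : Finite (S →ₐ[R] K) := hli.finite
  let := Fintype.ofFinite (S →ₐ[R] K)
  refine ⟨inferInstance, ?_⟩
  have := hli.fintype_card_le_finrank
  simpa [Nat.card_eq_fintype_card] using this

/-- A finite type quasi-finite algebra has boundedly many points in any field. -/
lemma exists_bound_algHom (R S : Type u) [CommRing R] [CommRing S] [Algebra R S]
    [Algebra.FiniteType R S] [Algebra.QuasiFinite R S] :
    ∃ d : ℕ, ∀ (K : Type u) [Field K] [Algebra R K],
      Finite (S →ₐ[R] K) ∧ Nat.card (S →ₐ[R] K) ≤ d := by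
  classical
  have h : ∀ q : PrimeSpectrum S, ∃ (C : Subalgebra R S) (m : ℕ) (c : Fin m → C) (r : C),
      Submodule.span R (Set.range c) = ⊤ ∧ r.1 ∉ q.asIdeal ∧
      Function.Bijective (Localization.awayMap C.val.toRingHom r) := by
    intro q
    have := q.2
    obtain ⟨C, hC, r, hr, hb⟩ :=
      Algebra.ZariskisMainProperty.exists_fg_and_exists_notMem_and_awayMap_bijective q.asIdeal
        (Algebra.ZariskisMainProperty.of_finiteType (R := R) q.asIdeal)
    have : Module.Finite R C := ⟨(Submodule.fg_top _).mpr hC⟩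
    obtain ⟨m, c, hc⟩ := Module.Finite.exists_fin (R := R) (M := C)
    exact ⟨C, m, c, r, hc, hr, hb⟩
  choose C m c r hc hr hb using h
  obtain ⟨t, ht⟩ := isCompact_univ.elim_finite_subcover
    (fun q ↦ (PrimeSpectrum.basicOpen (r q).1 : Set (PrimeSpectrum S)))
    (fun q ↦ (PrimeSpectrum.basicOpen (r q).1).isOpen)
    (fun q _ ↦ Set.mem_iUnion.mpr ⟨q, hr q⟩)
  refine ⟨∑ q ∈ t, m q, fun K _ _ ↦ ?_⟩
  have hinj : ∀ q, Set.InjOn (fun χ : S →ₐ[R] K ↦ χ.comp (C q).val) {χ | χ (r q).1 ≠ 0} := by
    intro q χ hχ χ' hχ' h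
    ext s
    obtain ⟨x, k, hx⟩ := (Localization.awayMap_surjective_iff (f := (C q).val.toRingHom)).mp
      (hb q).surjective s
    have h1 := congr($h x)
    have h2 : (C q).val.toRingHom (r q) = (r q).1 := rfl
    simp only [AlgHom.comp_apply] at h1
    have h3 : ((r q).1 : S) ^ k * s = (C q).val x := by rw [← h2]; exact hx.symm
    have hr' : χ (r q).1 = χ' (r q).1 := congr($h (r q))
    have := congrArg χ h3
    have e := (this.trans h1).trans (congrArg χ' h3).symm
    rw [map_mul, map_mul, map_pow, map_pow, ← hr'] at e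
    exact mul_left_cancel₀ (pow_ne_zero k hχ) e
  have hq : ∀ q, Finite {χ : S →ₐ[R] K | χ (r q).1 ≠ 0} ∧
      Nat.card {χ : S →ₐ[R] K | χ (r q).1 ≠ 0} ≤ m q := fun q ↦ by
    obtain ⟨hfin, hcard⟩ := finite_algHom_and_card_le (K := K) (c q) (hc q)
    have hinj' : Function.Injective (fun χ : {χ : S →ₐ[R] K | χ (r q).1 ≠ 0} ↦
        χ.1.comp (C q).val) := fun a b h ↦ Subtype.ext (hinj q a.2 b.2 h)
    exact ⟨Finite.of_injective _ hinj', (Nat.card_le_card_of_injective _ hinj').trans hcard⟩
  have hcov : (Set.univ : Set (S →ₐ[R] K)) = ⋃ q ∈ t, {χ | χ (r q).1 ≠ 0} := by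
    refine (Set.eq_univ_of_forall fun χ ↦ ?_).symm
    have : (RingHom.ker χ.toRingHom).IsPrime := RingHom.ker_isPrime _
    obtain ⟨q, hq, hχ⟩ := Set.mem_iUnion₂.mp
      (ht (Set.mem_univ (⟨RingHom.ker χ.toRingHom, this⟩ : PrimeSpectrum S)))
    exact Set.mem_iUnion₂.mpr ⟨q, hq, hχ⟩
  have hfinU : (Set.univ : Set (S →ₐ[R] K)).Finite :=
    hcov ▸ t.finite_toSet.biUnion fun q _ ↦ @Set.toFinite _ _ (hq q).1
  refine ⟨Set.finite_univ_iff.mp hfinU, ?_⟩
  rw [← Set.ncard_univ, hcov]
  refine (Finset.set_ncard_biUnion_le t _).trans (Finset.sum_le_sum fun q _ ↦ ?_)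
  rw [← Nat.card_coe_set_eq]
  exact (hq q).2

/-- Boundedly many geometric points in the fibres over a quasi-compact source. -/
theorem exists_bound_gpts {X Y : Scheme.{u}} (f : X ⟶ Y) [LocallyQuasiFinite f]
    [LocallyOfFiniteType f] [CompactSpace X] :
    ∃ d : ℕ, ∀ (K : Type u) [Field K] (y : Spec (.of K) ⟶ Y),
      Finite (GPts f y) ∧ Nat.card (GPts f y) ≤ d := by
  classical
  have h : ∀ x : X, ∃ (U : X.Opens) (d : ℕ), x ∈ U ∧ ∀ (K : Type u) [Field K]
      (y : Spec (.of K) ⟶ Y), Finite {z : GPts f y | pt z.1 ∈ U} ∧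
        Nat.card {z : GPts f y | pt z.1 ∈ U} ≤ d := by
    intro x
    obtain ⟨W₀, hW, hxW, -⟩ := TopologicalSpace.Opens.isBasis_iff_nbhd.mp Y.isBasis_affineOpens
      (show f x ∈ (⊤ : Y.Opens) from trivial)
    let W : Y.Opens := W₀
    have hW : IsAffineOpen W := hW
    obtain ⟨U₀, hU, hxU, hle⟩ := TopologicalSpace.Opens.isBasis_iff_nbhd.mp X.isBasis_affineOpens
      (show x ∈ f ⁻¹ᵁ W from hxW)
    let U : X.Opens := U₀
    have hU : IsAffineOpen U := hU
    have hUW : U ≤ f ⁻¹ᵁ W := hle
    let φ := f.appLE W U hUW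
    let _ : Algebra Γ(Y, W) Γ(X, U) := φ.hom.toAlgebra
    have : Algebra.FiniteType Γ(Y, W) Γ(X, U) := f.finiteType_appLE hW hU hUW
    have : Algebra.QuasiFinite Γ(Y, W) Γ(X, U) :=
      LocallyQuasiFinite.quasiFinite_appLE hW hU hUW
    obtain ⟨d, hd⟩ := exists_bound_algHom Γ(Y, W) Γ(X, U)
    refine ⟨U, d, hxU, fun K _ y ↦ ?_⟩
    by_cases hne : IsEmpty {z : GPts f y | pt z.1 ∈ U}
    · exact ⟨inferInstance, by simp⟩
    obtain ⟨z₀, hz₀⟩ := not_isEmpty_iff.mp hne
    have hyW : pt y ∈ W := by rw [← z₀.map_pt]; exact hUW hz₀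
    have hr : ∀ {T : Scheme.{u}} {O : T.Opens} (hO : IsAffineOpen O) (t : Spec (.of K) ⟶ T),
        pt t ∈ O → Set.range t ⊆ Set.range hO.fromSpec := by
      rintro T O hO t ht _ ⟨p, rfl⟩
      rw [Subsingleton.elim (α := PrimeSpectrum K) p (closedPoint K), hO.range_fromSpec]
      exact ht
    obtain ⟨η, hη⟩ := Spec.map_surjective (IsOpenImmersion.lift hW.fromSpec y (hr hW y hyW))
    let _ : Algebra Γ(Y, W) K := η.hom.toAlgebra
    let toHom : {z : GPts f y | pt z.1 ∈ U} → (Γ(X, U) →ₐ[Γ(Y, W)] K) := fun z ↦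
      { toRingHom := (Spec.preimage (IsOpenImmersion.lift hU.fromSpec z.1.1 (hr hU _ z.2))).hom
        commutes' := fun a ↦ by
          have key : φ ≫ Spec.preimage (IsOpenImmersion.lift hU.fromSpec z.1.1 (hr hU _ z.2)) =
              η := by
            apply Spec.map_injective
            rw [← cancel_mono hW.fromSpec, Spec.map_comp, Category.assoc, Spec.map_preimage, hη,
              IsAffineOpen.SpecMap_appLE_fromSpec f hW hU hUW, IsOpenImmersion.lift_fac_assoc,
              IsOpenImmersion.lift_fac]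
            exact z.1.2
          exact congr(($key).hom a) }
    have htoHom : Function.Injective toHom := by
      intro z z' h
      have h' := congrArg (fun χ : Γ(X, U) →ₐ[Γ(Y, W)] K ↦
        Spec.map (CommRingCat.ofHom χ.toRingHom) ≫ hU.fromSpec) h
      simp only [toHom] at h'
      have e : ∀ z : {z : GPts f y | pt z.1 ∈ U}, Spec.map (CommRingCat.ofHom
          (Spec.preimage (IsOpenImmersion.lift hU.fromSpec z.1.1 (hr hU _ z.2))).hom) ≫
            hU.fromSpec = z.1.1 := fun z ↦ by
        rw [CommRingCat.ofHom_hom, Spec.map_preimage, IsOpenImmersion.lift_fac]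
      exact Subtype.ext (Subtype.ext ((e z).symm.trans (h'.trans (e z'))))
    have := (hd K).1
    exact ⟨Finite.of_injective _ htoHom,
      (Nat.card_le_card_of_injective _ htoHom).trans (hd K).2⟩
  choose U d hxU hd using h
  obtain ⟨t, ht⟩ := isCompact_univ.elim_finite_subcover (fun x ↦ (U x : Set X))
    (fun x ↦ (U x).isOpen) (fun x _ ↦ Set.mem_iUnion.mpr ⟨x, hxU x⟩)
  refine ⟨∑ x ∈ t, d x, fun K _ y ↦ ?_⟩
  have hcov : (Set.univ : Set (GPts f y)) = ⋃ x ∈ t, {z | pt z.1 ∈ U x} := by
    refine (Set.eq_univ_of_forall fun z ↦ ?_).symm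
    obtain ⟨x, hx, hz⟩ := Set.mem_iUnion₂.mp (ht (Set.mem_univ (pt z.1)))
    exact Set.mem_iUnion₂.mpr ⟨x, hx, hz⟩
  have hfinU : (Set.univ : Set (GPts f y)).Finite :=
    hcov ▸ t.finite_toSet.biUnion fun x _ ↦
      @Set.toFinite _ _ (hd x K y).1
  refine ⟨Set.finite_univ_iff.mp hfinU, ?_⟩
  rw [← Set.ncard_univ, hcov]
  refine (Finset.set_ncard_biUnion_le t _).trans (Finset.sum_le_sum fun x _ ↦ ?_)
  rw [← Nat.card_coe_set_eq]
  exact (hd x K y).2

lemma isSepClosed_of_ringEquiv {k k' : Type u} [Field k] [Field k'] [IsSepClosed k] (e : k ≃+* k') :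
    IsSepClosed k' := by
  refine .of_exists_root _ fun p hm hirr hsep ↦ ?_
  have hirr' : Irreducible (p.map e.symm.toRingHom) :=
    (MulEquiv.irreducible_iff (Polynomial.mapEquiv e.symm)).mpr hirr
  obtain ⟨x, hx⟩ := IsSepClosed.exists_root (p.map e.symm.toRingHom)
    (Polynomial.degree_pos_of_irreducible hirr').ne' hsep.map
  refine ⟨e x, ?_⟩
  rw [Polynomial.IsRoot, Polynomial.eval_map] at hx
  have h := congrArg e.toRingHom hx
  rw [map_zero, Polynomial.hom_eval₂] at h
  simpa using h

section GeomFiber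

variable {X Y : Scheme.{u}} (f : X ⟶ Y)

/-- The map of the geometric fibre to the separable closure of the residue field. -/
noncomputable abbrev sepBase (y : Y) :
    Spec (.of (SeparableClosure (Y.residueField y))) ⟶ Y :=
  Spec.map (CommRingCat.ofHom
    (algebraMap (Y.residueField y) (SeparableClosure (Y.residueField y)))) ≫
      Y.fromSpecResidueField y

lemma isPullback_geomFiber (y : Y) :
    IsPullback (pullback.fst _ _ ≫ f.fiberι y : MoreMor.geomFiber f y ⟶ X) (pullback.snd _ _)
      f (sepBase y) :=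
  (IsPullback.of_hasPullback (f.fiberToSpecResidueField y) _).flip.paste_vert
    (IsPullback.of_hasPullback f (Y.fromSpecResidueField y)).flip |>.flip

variable [LocallyQuasiFinite f]

lemma discreteTopology_geomFiber (y : Y) : DiscreteTopology (MoreMor.geomFiber f y) := by
  let π : MoreMor.geomFiber f y ⟶ Spec (.of (SeparableClosure (Y.residueField y))) :=
    pullback.snd _ _
  have : LocallyQuasiFinite π :=
    MorphismProperty.of_isPullback (P := @LocallyQuasiFinite) (isPullback_geomFiber f y) ‹_›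
  have h := π.isDiscrete_preimage_singleton (closedPoint _)
  refine isDiscrete_univ_iff.mp ?_
  convert h
  exact (Set.eq_univ_of_forall fun u ↦
    Subsingleton.elim (α := PrimeSpectrum (SeparableClosure (Y.residueField y))) _ _).symm

lemma nGeomConnComp_eq_card (y : Y) :
    MoreMor.nGeomConnComp f y = ENat.card (MoreMor.geomFiber f y) := by
  have := discreteTopology_geomFiber f y
  refine (ENat.card_congr (Equiv.ofBijective ConnectedComponents.mk ⟨fun a b h ↦ ?_,
    ConnectedComponents.surjective_coe⟩)).symm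
  have h1 := ConnectedComponents.coe_eq_coe.mp h
  simp only [connectedComponent_eq_singleton, Set.singleton_eq_singleton_iff] at h1
  exact h1

lemma nGeomIrredComp_eq_card (y : Y) :
    MoreMor.nGeomIrredComp f y = ENat.card (MoreMor.geomFiber f y) := by
  have := discreteTopology_geomFiber f y
  have e : irreducibleComponents (MoreMor.geomFiber f y) =
      Set.range fun a ↦ ({a} : Set (MoreMor.geomFiber f y)) := by
    ext Z
    constructor
    · intro hZ
      obtain ⟨a, ha⟩ := hZ.1.1
      exact ⟨a, (Set.eq_singleton_iff_unique_mem.mpr ⟨ha, fun b hb ↦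
        (hZ.1.isPreirreducible.isPreconnected.subsingleton) hb ha⟩).symm⟩
    · rintro ⟨a, rfl⟩
      exact ⟨isIrreducible_singleton, fun Z' hZ' hle b hb ↦
        (hZ'.isPreirreducible.isPreconnected.subsingleton) hb (hle rfl)⟩
  rw [MoreMor.nGeomIrredComp, e, ← Set.image_univ,
    (Set.singleton_injective.injOn).encard_image, Set.encard_univ]

lemma card_geomFiber_eq [LocallyOfFiniteType f] (y : Y) :
    ∃ (K : Type u) (_ : Field K) (_ : IsAlgClosed K) (yb : Spec (.of K) ⟶ Y), pt yb = y ∧
      ENat.card (MoreMor.geomFiber f y) = ENat.card (GPts f yb) := by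
  let L := SeparableClosure (Y.residueField y)
  let K := AlgebraicClosure L
  let a : Spec (.of K) ⟶ Spec (.of L) := Spec.map (CommRingCat.ofHom (algebraMap L K))
  let π : MoreMor.geomFiber f y ⟶ Spec (.of L) := pullback.snd _ _
  have : LocallyQuasiFinite π :=
    MorphismProperty.of_isPullback (P := @LocallyQuasiFinite) (isPullback_geomFiber f y) ‹_›
  refine ⟨K, inferInstance, inferInstance, a ≫ sepBase y, ?_, ?_⟩
  · show pt (a ≫ Spec.map _ ≫ Y.fromSpecResidueField y) = y
    exact Scheme.fromSpecResidueField_apply y _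
  rw [← ENat.card_congr (GPts.pullbackEquiv (isPullback_geomFiber f y) a)]
  have hpt : ∀ u, π u = pt a := fun u ↦
    Subsingleton.elim (α := PrimeSpectrum L) _ _
  refine (ENat.card_congr (Equiv.ofBijective (fun z : GPts π a ↦ pt z.1) ⟨?_, fun u ↦ ?_⟩)).symm
  · intro z z' h
    have hone : Nat.card {x : GPts π a // pt x.1 = pt z.1} = 1 := by
      rw [natCard_lifts π a (pt z.1) (hpt _)]
      let _ := (π.residueFieldMap (pt z.1)).hom.toAlgebra
      have := residueField_finite π (pt z.1)
      have : IsSepClosed ((Spec (.of L)).residueField (π (pt z.1))) := by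
        let p : PrimeSpectrum L := π (pt z.1)
        have hp : p.asIdeal = ⊥ := p.asIdeal.eq_bot_of_prime
        exact isSepClosed_of_ringEquiv
          ((p.asIdeal.algEquivResidueFieldOfField).toRingEquiv.trans
            (Scheme.Spec.residueFieldIso (.of L) p).symm.commRingCatIsoToRingEquiv)
      exact IsPurelyInseparable.finSepDegree_eq_one _ _
    exact congr(Subtype.val $((Nat.card_eq_one_iff_unique.mp hone).1.elim ⟨z, rfl⟩ ⟨z', h.symm⟩))
  · obtain ⟨z, hz⟩ := exists_lift π a u (hpt u)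
    exact ⟨z, hz⟩

end GeomFiber

end Groth.Agent.Weighting
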