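import Groth.Agent.Weighting.GPts
import Mathlib.AlgebraicGeometry.Morphisms.Finite
import Mathlib.FieldTheory.PurelyInseparable.Basic
import Mathlib.RingTheory.Spectrum.Prime.ConstructibleSet
import Mathlib.Topology.Constructible
import Mathlib.Algebra.CharP.Basic

/-!
# The locus of fibres with a single geometric point contains a constructible neighbourhood
-/

set_option autoImplicit false

universe u

open CategoryTheory CategoryTheory.Limits AlgebraicGeometry IsLocalRing Topology

namespace Groth.Agent.Weighting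

attribute [local instance] RingHom.ker_isPrime

/-- An element lying in all primes over `p` is nilpotent in the fibre. -/
lemma exists_pow_mem_map {R A : Type u} [CommRing R] [CommRing A] [Algebra R A] (p : Ideal R)
    [p.IsPrime] (z : A) (hz : ∀ P : Ideal A, P.IsPrime → P.comap (algebraMap R A) = p → z ∈ P) :
    ∃ s ∉ p, ∃ N : ℕ, algebraMap R A s * z ^ N ∈ p.map (algebraMap R A) := by
  by_contra! h
  let M : Submonoid A := Algebra.algebraMapSubmonoid A p.primeCompl ⊔ Submonoid.powers z
  have hdisj : Disjoint (p.map (algebraMap R A) : Set A) M := by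
    rw [Set.disjoint_left]
    intro a ha haM
    obtain ⟨_, ⟨s, hs, rfl⟩, _, ⟨N, rfl⟩, rfl⟩ := Submonoid.mem_sup.mp haM
    exact h s hs N ha
  obtain ⟨P, hP, hle, hd⟩ := Ideal.exists_le_prime_disjoint _ M hdisj
  refine Set.disjoint_left.mp hd (hz P hP (le_antisymm (fun r hr ↦ ?_)
    (Ideal.map_le_iff_le_comap.mp hle))) (Submonoid.mem_sup_right (Submonoid.mem_powers z))
  by_contra hrp
  exact Set.disjoint_left.mp hd hr (Submonoid.mem_sup_left ⟨r, hrp, rfl⟩)

lemma exists_witness {R A : Type u} [CommRing R] [CommRing A] [Algebra R A]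
    [Algebra.IsIntegral R A] (p : Ideal R) [p.IsPrime]
    (h : ∀ (K : Type u) [Field K] [IsAlgClosed K] [Algebra R K],
      RingHom.ker (algebraMap R K) = p → Subsingleton (A →ₐ[R] K)) (a : A) :
    ∃ (n : ℕ) (b c s : R) (N : ℕ), b ∉ p ∧ s ∉ p ∧ algebraMap R A s *
      (algebraMap R A b * a ^ (ringExpChar p.ResidueField) ^ n - algebraMap R A c) ^ N ∈
        p.map (algebraMap R A) := by
  classical
  -- the case of an empty fibre
  by_cases hne : ∃ P : Ideal A, P.IsPrime ∧ P.comap (algebraMap R A) = p
  swap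
  · obtain ⟨s, hs, N, hN⟩ := exists_pow_mem_map p (algebraMap R A 1 * a ^ (ringExpChar
      p.ResidueField) ^ 0 - algebraMap R A 0) fun P hP hPp ↦ (hne ⟨P, hP, hPp⟩).elim
    exact ⟨0, 1, 0, s, N, p.primeCompl.one_mem, hs, hN⟩
  obtain ⟨P, hP, hPp⟩ := hne
  have : P.LiesOver p := ⟨hPp.symm⟩
  let K := AlgebraicClosure p.ResidueField
  have hker : RingHom.ker (algebraMap R K) = p := by
    ext r
    rw [RingHom.mem_ker, IsScalarTower.algebraMap_apply R p.ResidueField K, map_eq_zero,
      Ideal.algebraMap_residueField_eq_zero]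
  have := h K hker
  -- every prime over `p` has a point in `K`
  have hpoint : ∀ P' : Ideal A, ∀ _ : P'.IsPrime, ∀ _ : P'.LiesOver p,
      ∃ (E : Type u) (_ : Field E) (_ : Algebra p.ResidueField E) (_ : Algebra A E)
        (_ : Algebra.IsAlgebraic p.ResidueField E) (_ : Algebra R E),
        RingHom.ker (algebraMap A E) = P' ∧ IsScalarTower R p.ResidueField E ∧
          IsScalarTower R A E := by
    intro P' _ _
    let φ : R ⧸ p →+* A ⧸ P' := Ideal.quotientMap P' (algebraMap R A) (P'.over_def p).le
    let E := FractionRing (A ⧸ P')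
    have hAE : ∀ x, algebraMap A E x = algebraMap (A ⧸ P') E (Ideal.Quotient.mk P' x) :=
      fun x ↦ IsScalarTower.algebraMap_apply A (A ⧸ P') E x
    have hRE : ∀ r, algebraMap R E r = 0 ↔ r ∈ p := fun r ↦ by
      rw [IsScalarTower.algebraMap_apply R A E, hAE, IsFractionRing.to_map_eq_zero_iff,
        Ideal.Quotient.eq_zero_iff_mem, P'.over_def p]
      rfl
    let ψ : p.ResidueField →+* E := Ideal.ResidueField.lift p (algebraMap R E)
      (fun r hr ↦ RingHom.mem_ker.mpr ((hRE r).mpr hr))
      (fun r hr ↦ isUnit_iff_ne_zero.mpr fun h0 ↦ hr ((hRE r).mp h0))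
    let _ := ψ.toAlgebra
    have : IsScalarTower R p.ResidueField E :=
      .of_algebraMap_eq fun r ↦ (Ideal.ResidueField.lift_algebraMap _ _ _ _ r).symm
    have hint : ∀ x : A, IsAlgebraic p.ResidueField (algebraMap A E x) := fun x ↦
      (((Algebra.IsIntegral.isIntegral (R := R) x).map (IsScalarTower.toAlgHom R A E)).tower_top
        (A := p.ResidueField)).isAlgebraic
    refine ⟨E, inferInstance, inferInstance, inferInstance, ⟨fun e ↦ ?_⟩, inferInstance,
      ?_, inferInstance, inferInstance⟩
    · obtain ⟨x, ⟨y, hy⟩, rfl⟩ := IsLocalization.exists_mk'_eq (nonZeroDivisors (A ⧸ P')) e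
      obtain ⟨x, rfl⟩ := Ideal.Quotient.mk_surjective x
      obtain ⟨y, rfl⟩ := Ideal.Quotient.mk_surjective y
      rw [IsFractionRing.mk'_eq_div]
      exact isAlgebraic_iff_isIntegral.mpr
        ((hint x).isIntegral.mul (hint y).isIntegral.inv)
    · ext x
      show algebraMap (A ⧸ P') E (Ideal.Quotient.mk P' x) = 0 ↔ _
      rw [IsFractionRing.to_map_eq_zero_iff, Ideal.Quotient.eq_zero_iff_mem]
  obtain ⟨E, _, _, _, _, _, hkerE, _, _⟩ := hpoint P hP inferInstance
  let toA : (E →ₐ[p.ResidueField] K) → (A →ₐ[R] K) := fun φ ↦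
    (φ.restrictScalars R).comp (IsScalarTower.toAlgHom R A E)
  -- purely inseparable subfield generated by the image of `a`
  let x₀ := algebraMap A E a
  let F := IntermediateField.adjoin p.ResidueField ({x₀} : Set E)
  have hsub : Subsingleton (F →ₐ[p.ResidueField] K) := ⟨fun φ φ' ↦ by
    have hx : φ ⟨x₀, IntermediateField.mem_adjoin_simple_self _ _⟩ =
        φ' ⟨x₀, IntermediateField.mem_adjoin_simple_self _ _⟩ := by
      obtain ⟨Φ, hΦ⟩ := IsAlgClosed.surjective_domRestrict_of_isAlgebraic (E := E) φ
      obtain ⟨Φ', hΦ'⟩ := IsAlgClosed.surjective_domRestrict_of_isAlgebraic (E := E) φ'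
      have := congr($(Subsingleton.elim (toA Φ) (toA Φ')) a)
      rw [← hΦ, ← hΦ']
      exact this
    refine IntermediateField.adjoin.powerBasis ?_ |>.algHom_ext hx
    exact (Algebra.IsAlgebraic.isAlgebraic x₀).isIntegral⟩
  have : IsPurelyInseparable p.ResidueField F := by
    rw [isPurelyInseparable_iff_finSepDegree_eq_one, Field.finSepDegree_eq_of_isAlgClosed
      p.ResidueField F K, Nat.card_eq_one_iff_unique]
    exact ⟨hsub, ⟨IsAlgClosed.lift⟩⟩
  obtain ⟨n, t, ht⟩ := IsPurelyInseparable.pow_mem p.ResidueField (ringExpChar p.ResidueField)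
    (⟨x₀, IntermediateField.mem_adjoin_simple_self _ _⟩ : F)
  have ht' : algebraMap p.ResidueField E t = x₀ ^ ringExpChar p.ResidueField ^ n :=
    congr(Subtype.val $ht)
  obtain ⟨c', ⟨b', hb'⟩, rfl⟩ := IsLocalization.exists_mk'_eq (nonZeroDivisors (R ⧸ p)) t
  obtain ⟨c, rfl⟩ := Ideal.Quotient.mk_surjective c'
  obtain ⟨b, rfl⟩ := Ideal.Quotient.mk_surjective b'
  have hb : b ∉ p := fun hb ↦
    nonZeroDivisors.ne_zero hb' (Ideal.Quotient.eq_zero_iff_mem.mpr hb)
  have hmem : ∀ P' : Ideal A, P'.IsPrime → P'.comap (algebraMap R A) = p →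
      algebraMap R A b * a ^ ringExpChar p.ResidueField ^ n - algebraMap R A c ∈ P' := by
    intro P' hP' hP'p
    -- all primes over `p` coincide
    obtain ⟨E', _, _, _, _, _, hkerE', _, _⟩ := hpoint P' hP' ⟨hP'p.symm⟩
    have hPP : P' = P := by
      let φ : E →ₐ[p.ResidueField] K := IsAlgClosed.lift
      let φ' : E' →ₐ[p.ResidueField] K := IsAlgClosed.lift
      have e := Subsingleton.elim (toA φ)
        ((φ'.restrictScalars R).comp (IsScalarTower.toAlgHom R A E'))
      rw [← hkerE, ← hkerE']
      ext x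
      simp only [RingHom.mem_ker]
      rw [← map_eq_zero_iff φ φ.injective, ← map_eq_zero_iff φ' φ'.injective]
      exact Eq.congr_left (congr($e x)).symm
    rw [hPP, ← hkerE, RingHom.mem_ker, map_sub, map_mul, map_pow, ← ht',
      ← IsScalarTower.algebraMap_apply, ← IsScalarTower.algebraMap_apply,
      IsScalarTower.algebraMap_apply R p.ResidueField E,
      IsScalarTower.algebraMap_apply R p.ResidueField E, ← map_mul, sub_eq_zero]
    congr 1
    rw [IsScalarTower.algebraMap_apply R (R ⧸ p) p.ResidueField,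
      IsScalarTower.algebraMap_apply R (R ⧸ p) p.ResidueField]
    exact IsLocalization.mk'_spec' _ _ ⟨Ideal.Quotient.mk p b, hb'⟩
  obtain ⟨s, hs, N, hN⟩ := exists_pow_mem_map p _ hmem
  exact ⟨n, b, c, s, N, hb, hs, hN⟩

/-- Fibres with a single geometric point spread out to a constructible set. -/
theorem exists_constructible_subsingleton_algHom {R A : Type u} [CommRing R] [CommRing A]
    [Algebra R A] [Module.Finite R A] (p : Ideal R) [hp : p.IsPrime]
    (h : ∀ (K : Type u) [Field K] [IsAlgClosed K] [Algebra R K],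
      RingHom.ker (algebraMap R K) = p → Subsingleton (A →ₐ[R] K)) :
    ∃ C : Set (PrimeSpectrum R), IsConstructible C ∧ ⟨p, hp⟩ ∈ C ∧
      ∀ (L : Type u) [Field L] [Algebra R L],
        (⟨RingHom.ker (algebraMap R L), RingHom.ker_isPrime _⟩ : PrimeSpectrum R) ∈ C →
          Subsingleton (A →ₐ[R] L) := by
  classical
  obtain ⟨gens, hgens⟩ := Module.Finite.fg_top (R := R) (M := A)
  choose n b c s N hb hs hN using fun a : gens ↦ exists_witness p h a.1
  choose T hT hTz using fun a : gens ↦ Submodule.mem_span_finite_of_mem_span (hN a)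
  choose T' hT' hT'T using fun a : gens ↦ Finset.subset_set_image_iff.mp (hT a)
  let e := ringExpChar p.ResidueField
  let J : Finset R := (Finset.univ.biUnion fun a ↦ T' a) ∪
    if (e : R) ∈ p then {(e : R)} else ∅
  let d := ∏ a, b a * s a
  refine ⟨PrimeSpectrum.basicOpen d ∩ PrimeSpectrum.zeroLocus J, ?_, ⟨?_, ?_⟩, fun L _ _ hL ↦ ?_⟩
  · refine ((PrimeSpectrum.isCompact_basicOpen d).isConstructible
      (PrimeSpectrum.basicOpen d).isOpen).inter ?_
    rw [← isConstructible_compl]
    exact ((PrimeSpectrum.isRetrocompact_zeroLocus_compl J.finite_toSet)).isConstructible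
      (PrimeSpectrum.isClosed_zeroLocus _).isOpen_compl
  · show d ∉ p
    refine fun hd ↦ ?_
    obtain ⟨a, -, ha⟩ := hp.prod_mem_iff.mp hd
    exact (hp.mem_or_mem ha).elim (hb a) (hs a)
  · intro r hr
    rcases Finset.mem_union.mp hr with hr | hr
    · obtain ⟨a, -, ha⟩ := Finset.mem_biUnion.mp hr
      exact hT' a ha
    · split_ifs at hr with he
      · rw [Finset.mem_singleton.mp hr]; exact he
      · simp at hr
  · obtain ⟨hd, hJ⟩ := hL
    have hdL : ∀ a, algebraMap R L (b a) ≠ 0 ∧ algebraMap R L (s a) ≠ 0 := fun a ↦ by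
      have hd' : algebraMap R L d ≠ 0 := hd
      rw [map_prod, Finset.prod_ne_zero_iff] at hd'
      simpa [not_or] using hd' a (Finset.mem_univ a)
    have hJ0 : ∀ r ∈ J, algebraMap R L r = 0 := fun r hr ↦ hJ hr
    have he : e = 1 ∨ ∃ _ : ExpChar L e, True := by
      rcases ringExpChar.exp_char_prime_or_zero_aux p with h1 | ⟨hprime, hmem⟩
      · exact .inl h1
      · refine .inr ⟨?_, trivial⟩
        have : CharP L e := (CharP.charP_iff_prime_eq_zero hprime).mpr (by
          have := hJ0 e (Finset.mem_union_right _ (by rw [if_pos hmem]; simp))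
          simpa using this)
        exact ExpChar.prime hprime
    refine ⟨fun φ φ' ↦ AlgHom.toLinearMap_injective (LinearMap.ext_on hgens fun a ha ↦ ?_)⟩
    let a' : gens := ⟨a, ha⟩
    have key : ∀ ψ : A →ₐ[R] L,
        algebraMap R L (b a') * ψ a ^ e ^ n a' = algebraMap R L (c a') := by
      intro ψ
      have h0 : ψ (algebraMap R A (s a') *
          (algebraMap R A (b a') * a ^ e ^ n a' - algebraMap R A (c a')) ^ N a') = 0 := by
        have hle : Submodule.span A (T a' : Set A) ≤ RingHom.ker ψ := by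
          refine Submodule.span_le.mpr fun z hz ↦ ?_
          rw [← hT'T a', Finset.coe_image] at hz
          obtain ⟨r, hr, rfl⟩ := hz
          rw [SetLike.mem_coe, RingHom.mem_ker, AlgHom.commutes]
          exact hJ0 r (Finset.mem_union_left _
            (Finset.mem_biUnion.mpr ⟨a', Finset.mem_univ _, hr⟩))
        exact hle (hTz a')
      rw [map_mul, AlgHom.commutes, map_pow, map_sub, map_mul, map_pow, AlgHom.commutes,
        AlgHom.commutes, mul_eq_zero, or_iff_right (hdL a').2] at h0
      exact sub_eq_zero.mp (eq_zero_of_pow_eq_zero h0)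
    have h2 : φ a ^ e ^ n a' = φ' a ^ e ^ n a' :=
      mul_left_cancel₀ (hdL a').1 ((key φ).trans (key φ').symm)
    show φ a = φ' a
    rcases he with he | ⟨_, -⟩
    · rw [he, one_pow, pow_one, pow_one] at h2
      exact h2
    · exact iterateFrobenius_inj L e (n a') (by simpa [iterateFrobenius_def] using h2)
where
  ringExpChar.exp_char_prime_or_zero_aux {R : Type u} [CommRing R] (p : Ideal R) [p.IsPrime] :
      ringExpChar p.ResidueField = 1 ∨
        (ringExpChar p.ResidueField).Prime ∧ ((ringExpChar p.ResidueField : ℕ) : R) ∈ p := by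
    rcases expChar_is_prime_or_one p.ResidueField (ringExpChar p.ResidueField) with h | h
    · refine .inr ⟨h, ?_⟩
      rw [← Ideal.algebraMap_residueField_eq_zero, map_natCast]
      obtain ⟨q, hq⟩ := CharP.exists p.ResidueField
      rcases CharP.char_is_prime_or_zero p.ResidueField q with hqp | rfl
      · have : ExpChar p.ResidueField q := ExpChar.prime hqp
        rw [ringExpChar.eq p.ResidueField q]
        exact CharP.cast_eq_zero p.ResidueField q
      · have := CharP.charP_to_charZero p.ResidueField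
        rw [ringExpChar.eq_one] at h
        exact (Nat.not_prime_one h).elim
    · exact .inl h

end Groth.Agent.Weighting
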