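import Groth.Agent.Weighting.Semicont
import Groth.Agent.Weighting.InsepLocus
import Groth.Agent.Weighting.Count
import Groth.Agent.Spectral.Basic
import Mathlib.AlgebraicGeometry.Morphisms.FinitePresentation

/-!
# Constructibility of the level sets of weightings and their fibre integrals
-/

set_option autoImplicit false

universe u

open CategoryTheory CategoryTheory.Limits AlgebraicGeometry IsLocalRing Topology Filter

namespace Groth.Agent.Weighting

attribute [local instance] RingHom.ker_isPrime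

/-- A function which is constant on a constructible neighbourhood of each point has constructible
level sets and finitely many values. -/
lemma isConstructible_level_of_forall {T : Type*} [TopologicalSpace T] [CompactSpace T]
    [QuasiSober T] [PrespectralSpace T] [QuasiSeparatedSpace T] {α : Type*} (F : T → α)
    (h : ∀ t, ∃ C, IsConstructible C ∧ t ∈ C ∧ ∀ t' ∈ C, F t' = F t) :
    (∀ n, IsConstructible {t | F t = n}) ∧ (Set.range F).Finite := by
  choose C hC htC hFC using h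
  have hopen : ∀ n, IsOpen[constructibleTopology T] {t | F t = n} := by
    intro n
    have e : {t | F t = n} = ⋃ t ∈ {t | F t = n}, C t := by
      ext t
      simp only [Set.mem_iUnion, Set.mem_setOf_eq, exists_prop]
      exact ⟨fun ht ↦ ⟨t, ht, htC t⟩, fun ⟨s, hs, hts⟩ ↦ (hFC s t hts).trans hs⟩
    rw [e]
    exact @isOpen_biUnion _ _ (constructibleTopology T) _ _ fun t _ ↦
      (Spectral.isClopen_con_of_isConstructible (hC t)).2
  refine ⟨fun n ↦ Spectral.isConstructible_of_isClopen_con ⟨?_, hopen n⟩, ?_⟩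
  · refine @IsClosed.mk _ (constructibleTopology T) _ ?_
    have e : {t | F t = n}ᶜ = ⋃ m ∈ {m | m ≠ n}, {t | F t = m} := by
      ext t; simp
    rw [e]
    exact @isOpen_biUnion _ _ (constructibleTopology T) _ _ fun m _ ↦ hopen m
  · have hc : @IsCompact T (constructibleTopology T) Set.univ :=
      @isCompact_univ T (constructibleTopology T) Spectral.compactSpace_con
    obtain ⟨s, hs⟩ := @IsCompact.elim_finite_subcover T (constructibleTopology T) _ T hc C
      (fun t ↦ (Spectral.isClopen_con_of_isConstructible (hC t)).2)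
      (fun t _ ↦ Set.mem_iUnion.mpr ⟨t, htC t⟩)
    refine (s.finite_toSet.image F).subset ?_
    rintro _ ⟨t, rfl⟩
    obtain ⟨t', ht', ht⟩ := Set.mem_iUnion₂.mp (hs (Set.mem_univ t))
    exact ⟨t', ht', (hFC t' t ht).symm⟩

variable {K : Type u} [Field K] [IsAlgClosed K]

omit [IsAlgClosed K] in
/-- The points of a morphism of affine schemes in a field. -/
lemma subsingleton_gpts_spec_iff {R A : Type u} [CommRing R] [CommRing A] [Algebra R A]
    [Algebra R K] :
    Subsingleton (GPts (Spec.map (CommRingCat.ofHom (algebraMap R A)))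
      (Spec.map (CommRingCat.ofHom (algebraMap R K)))) ↔ Subsingleton (A →ₐ[R] K) := by
  let e : (A →ₐ[R] K) ≃ GPts (Spec.map (CommRingCat.ofHom (algebraMap R A)))
      (Spec.map (CommRingCat.ofHom (algebraMap R K))) :=
    Equiv.ofBijective (fun φ ↦ ⟨Spec.map (CommRingCat.ofHom φ.toRingHom), by
      rw [← Spec.map_comp, ← CommRingCat.ofHom_comp, AlgHom.toRingHom_eq_coe,
        φ.comp_algebraMap]⟩)
      ⟨fun φ φ' h ↦ AlgHom.coe_ringHom_injective
        (congr(CommRingCat.Hom.hom $(Spec.map_injective congr(Subtype.val $h)))), fun z ↦ by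
        obtain ⟨χ, hχ⟩ := Spec.map_surjective z.1
        have h := z.2
        rw [← hχ, ← Spec.map_comp] at h
        have h' : χ.hom.comp (algebraMap R A) = algebraMap R K :=
          congr(CommRingCat.Hom.hom $(Spec.map_injective h))
        exact ⟨{ toRingHom := χ.hom, commutes' := fun r ↦ congr($h' r) }, Subtype.ext hχ⟩⟩
  exact e.symm.subsingleton_congr

/-- The fibre integral of the constant function one counts geometric points. -/
lemma fibreIntegral_one {W V : Scheme.{u}} (q : W ⟶ V) [LocallyQuasiFinite q]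
    (y : Spec (.of K) ⟶ V) (hfin : (q ⁻¹' {pt y}).Finite) :
    MoreMor.fibreIntegral q (fun _ ↦ 1) (pt y) = Nat.card (GPts q y) := by
  have := finite_gpts q y hfin
  let := Fintype.ofFinite (GPts q y)
  rw [fibreIntegral_eq q _ y _ rfl hfin, finsum_eq_sum_of_fintype, Nat.card_eq_fintype_card]
  simp

lemma fibreIntegral_one_le_one_iff {W V : Scheme.{u}} (q : W ⟶ V) [LocallyQuasiFinite q]
    (y : Spec (.of K) ⟶ V) (hfin : (q ⁻¹' {pt y}).Finite) :
    MoreMor.fibreIntegral q (fun _ ↦ 1) (pt y) ≤ 1 ↔ Subsingleton (GPts q y) := by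
  have := finite_gpts q y hfin
  rw [fibreIntegral_one q y hfin, Nat.cast_le_one, Finite.card_le_one_iff_subsingleton]

/-- A constructible neighbourhood with at most one geometric point per fibre. -/
lemma exists_constructible_le_one {W V : Scheme.{u}} [IsAffine V] (q : W ⟶ V) [IsFinite q]
    (v : V) (h : MoreMor.fibreIntegral q (fun _ ↦ 1) v ≤ 1) :
    ∃ C : Set V, IsConstructible C ∧ v ∈ C ∧
      ∀ v' ∈ C, MoreMor.fibreIntegral q (fun _ ↦ 1) v' ≤ 1 := by
  have : IsAffine W := isAffine_of_isAffineHom q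
  let R := Γ(V, ⊤)
  let A := Γ(W, ⊤)
  let φ : R ⟶ A := q.appTop
  let _ : Algebra R A := φ.hom.toAlgebra
  have : Module.Finite R A := q.finite_appTop
  have hsq : IsPullback W.isoSpec.hom q (Spec.map φ) V.isoSpec.hom :=
    .of_horiz_isIso ⟨Scheme.isoSpec_hom_naturality q⟩
  let q₀ : Spec A ⟶ Spec R := Spec.map φ
  have hfinq₀ : IsFinite q₀ := (IsFinite.SpecMap_iff φ).mpr ‹Module.Finite R A›
  have hFI : ∀ u : V, MoreMor.fibreIntegral q (fun _ ↦ 1) u =
      MoreMor.fibreIntegral q₀ (fun _ ↦ 1) (V.isoSpec.hom u) := fun u ↦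
    fibreIntegral_isPullback hsq (fun _ ↦ 1) u (q₀.finite_preimage_singleton _)
  let p : PrimeSpectrum R := V.isoSpec.hom v
  have hp : ∀ (L : Type u) [Field L] [IsAlgClosed L] [Algebra R L],
      (⟨RingHom.ker (algebraMap R L), RingHom.ker_isPrime _⟩ : PrimeSpectrum R) = p →
      Subsingleton (A →ₐ[R] L) := by
    intro L _ _ _ hL
    rw [← subsingleton_gpts_spec_iff]
    refine (fibreIntegral_one_le_one_iff _ _ (q₀.finite_preimage_singleton _)).mp ?_
    rw [show pt (Spec.map (CommRingCat.ofHom (algebraMap R L))) = V.isoSpec.hom v by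
      refine Eq.trans ?_ hL
      refine PrimeSpectrum.ext ?_
      show Ideal.comap (algebraMap R L) (IsLocalRing.maximalIdeal L) = _
      rw [IsLocalRing.maximalIdeal_eq_bot]
      rfl]
    rw [← hFI]
    exact h
  obtain ⟨C, hC, hpC, hCsub⟩ := exists_constructible_subsingleton_algHom (A := A) p.asIdeal
    fun L _ _ _ hL ↦ hp L (PrimeSpectrum.ext hL)
  refine ⟨V.isoSpec.hom ⁻¹' C, hC.preimage_of_isOpenEmbedding
    V.isoSpec.hom.homeomorph.isOpenEmbedding, hpC, fun v' hv' ↦ ?_⟩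
  obtain ⟨L, _, _, y, hy⟩ := exists_geomPoint (V.isoSpec.hom v')
  obtain ⟨η, rfl⟩ := Spec.map_surjective y
  let _ : Algebra R L := η.hom.toAlgebra
  rw [hFI, ← hy, fibreIntegral_one_le_one_iff _ _ (q₀.finite_preimage_singleton _)]
  refine (subsingleton_gpts_spec_iff (R := R) (A := A) (K := L)).mpr (hCsub L ?_)
  have e : (⟨RingHom.ker (algebraMap R L), RingHom.ker_isPrime _⟩ : PrimeSpectrum R) =
      V.isoSpec.hom v' := by
    refine Eq.trans ?_ hy
    refine PrimeSpectrum.ext ?_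
    show _ = Ideal.comap η.hom (IsLocalRing.maximalIdeal L)
    rw [IsLocalRing.maximalIdeal_eq_bot]
    rfl
  exact e.symm ▸ hv'

lemma le_one_of_isPointed {X V W : Scheme.{u}} {j : W ⟶ X} {q : W ⟶ V} [LocallyQuasiFinite q]
    {y : Spec (.of K) ⟶ V} {x : Spec (.of K) ⟶ X} (hx : IsPointed j q y x) :
    MoreMor.fibreIntegral q (fun _ ↦ 1) (pt y) ≤ 1 :=
  (hx.fibreIntegral_eq (fun _ ↦ 1)).le

lemma eq_weight_of_le_one {W V : Scheme.{u}} (q : W ⟶ V) [IsFinite q] (w : W → ℤ) (u : W)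
    (h : MoreMor.fibreIntegral q (fun _ ↦ 1) (q u) ≤ 1) :
    MoreMor.fibreIntegral q w (q u) = w u := by
  obtain ⟨L, _, _, y, hy⟩ := exists_geomPoint (q u)
  obtain ⟨z, rfl⟩ := exists_lift q y u hy.symm
  rw [← hy] at h ⊢
  have := (fibreIntegral_one_le_one_iff q y (q.finite_preimage_singleton _)).mp h
  exact fibreIntegral_of_unique q w y z fun _ ↦ Subsingleton.elim _ _

variable {X Y : Scheme.{u}} (f : X ⟶ Y) [LocallyQuasiFinite f] [LocallyOfFiniteType f]

/-- A weighting is constant on a constructible neighbourhood of each point of an affine open. -/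
lemma exists_constructible_weight_eq {w : X → ℤ} (hw : MoreMor.IsWeighting f w) (U : X.Opens)
    (hU : IsAffineOpen U) (x₀ : (U : Scheme.{u})) :
    ∃ C : Set (U : Scheme.{u}), IsConstructible C ∧ x₀ ∈ C ∧ ∀ x' ∈ C, w x'.1 = w x₀.1 := by
  obtain ⟨K, _, _, x, hxp⟩ := exists_geomPoint (U.ι x₀)
  obtain ⟨V, W, g, _, j, q, v, hv, hp, hx⟩ := exists_pointed_piece f x
  have := hp.isFinite
  obtain ⟨z, hz, -⟩ := id hx
  obtain ⟨N, hN, hNo, hvN⟩ :=
    eventually_nhds_iff.mp (eventually_fibreIntegral_of_isPointed hw hp hx)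
  obtain ⟨V₀', hV₀, hvV, hVN⟩ := TopologicalSpace.Opens.isBasis_iff_nbhd.mp V.isBasis_affineOpens
    (show pt v ∈ (⟨N, hNo⟩ : V.Opens) from hvN)
  let V₀ : V.Opens := V₀'
  have : IsAffine (V₀ : Scheme.{u}) := hV₀
  have hsq := (isPullback_morphismRestrict q V₀).flip
  have hFI : ∀ (a : W → ℤ) (v' : (V₀ : Scheme.{u})),
      MoreMor.fibreIntegral (q ∣_ V₀) (fun u ↦ a ((q ⁻¹ᵁ V₀).ι u)) v' =
        MoreMor.fibreIntegral q a (V₀.ι v') := fun a v' ↦ fibreIntegral_baseChange_finite hsq a v'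
  obtain ⟨C₀, hC₀, hvC, hC₀le⟩ := exists_constructible_le_one (q ∣_ V₀) ⟨pt v, hvV⟩ (by
    refine (hFI (fun _ ↦ 1) _).trans_le ?_
    exact le_one_of_isPointed hx)
  let O : W.Opens := j ⁻¹ᵁ U ⊓ q ⁻¹ᵁ V₀
  have hzO : pt z.1 ∈ O := ⟨show pt (z.1 ≫ j) ∈ (U : Set X) by
    rw [hz, hxp]; exact x₀.2, show q (pt z.1) ∈ V₀ by rw [z.map_pt]; exact hvV⟩
  obtain ⟨W₁', hW₁, hzW, hW₁O⟩ := TopologicalSpace.Opens.isBasis_iff_nbhd.mp W.isBasis_affineOpens hzO
  let W₁ : W.Opens := W₁'
  have : IsAffine (W₁ : Scheme.{u}) := hW₁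
  have : IsAffine (U : Scheme.{u}) := hU
  have hle₁ : W₁ ≤ j ⁻¹ᵁ U := hW₁O.trans inf_le_left
  have hle₂ : W₁ ≤ q ⁻¹ᵁ V₀ := hW₁O.trans inf_le_right
  let a : (W₁ : Scheme.{u}) ⟶ V₀ := q.resLE V₀ W₁ hle₂
  let b : (W₁ : Scheme.{u}) ⟶ U := j.resLE U W₁ hle₁
  have : IsOpenImmersion (pullback.lift j q hp.w) := hp.isOpenImmersion_lift
  have : Etale j := by
    rw [← pullback.lift_fst j q hp.w]
    infer_instance
  have : Etale b := by dsimp only [b, Scheme.Hom.resLE]; infer_instance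
  have hb : ∀ u, (b u).1 = j u.1 := fun u ↦ by
    show U.ι (b u) = j (W₁.ι u)
    rw [← Scheme.Hom.comp_apply, ← Scheme.Hom.comp_apply, Scheme.Hom.resLE_comp_ι]
  have ha : ∀ u, (a u).1 = q u.1 := fun u ↦ by
    show V₀.ι (a u) = q (W₁.ι u)
    rw [← Scheme.Hom.comp_apply, ← Scheme.Hom.comp_apply, Scheme.Hom.resLE_comp_ι]
  have hCb : IsLocallyConstructible (b '' (a ⁻¹' C₀)) :=
    b.isLocallyConstructible_image (a.isConstructible_preimage hC₀).isLocallyConstructible
  refine ⟨_, hCb.isConstructible, ⟨⟨pt z.1, hzW⟩, ?_, Subtype.ext ?_⟩, ?_⟩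
  · show a ⟨pt z.1, hzW⟩ ∈ C₀
    convert hvC
    exact Subtype.ext ((ha _).trans z.map_pt)
  · rw [hb]
    show pt (z.1 ≫ j) = _
    rw [hz, hxp]
    rfl
  · rintro _ ⟨u, hu, rfl⟩
    rw [hb]
    have h1 := hC₀le _ hu
    rw [hFI (fun _ ↦ 1)] at h1
    have h2 : MoreMor.fibreIntegral q (fun t ↦ w (j t)) (q u.1) = w (j u.1) :=
      eq_weight_of_le_one q (fun t ↦ w (j t)) u.1 (by rw [← ha]; exact h1)
    rw [← h2, hN _ (hVN (hle₂ u.2)), hxp]
    rfl

/-- Level sets of weightings are locally constructible. -/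
theorem isLocallyConstructible_weight {w : X → ℤ} (hw : MoreMor.IsWeighting f w) (n : ℤ) :
    IsLocallyConstructible {x : X | w x = n} := by
  refine IsLocallyConstructible.of_isOpenCover (ι := X.affineOpens) (U := fun U ↦ U.1)
    ?_ fun U ↦ ?_
  · exact TopologicalSpace.IsOpenCover.mk (iSup_affineOpens_eq_top X)
  have : IsAffine (U.1 : Scheme.{u}) := U.2
  exact ((isConstructible_level_of_forall (T := (U.1 : Scheme.{u})) (fun x ↦ w x.1)
    (exists_constructible_weight_eq f hw U.1 U.2)).1 n).isLocallyConstructible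

/-- Weightings take finitely many values on a quasi-compact scheme. -/
theorem finite_range_weight [CompactSpace X] {w : X → ℤ} (hw : MoreMor.IsWeighting f w) :
    (Set.range w).Finite := by
  obtain ⟨s, hs⟩ := isCompact_univ.elim_finite_subcover (fun U : X.affineOpens ↦ (U.1 : Set X))
    (fun U ↦ U.1.isOpen) (fun x _ ↦ by
      have : x ∈ (⨆ U : X.affineOpens, U.1) := by rw [iSup_affineOpens_eq_top]; trivial
      simpa [TopologicalSpace.Opens.mem_iSup] using this)
  refine Set.Finite.subset (s.finite_toSet.biUnion fun U _ ↦ ?_)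
    (show Set.range w ⊆ ⋃ U ∈ (s : Set X.affineOpens), w '' (U.1 : Set X) from ?_)
  · have : IsAffine (U.1 : Scheme.{u}) := U.2
    refine (isConstructible_level_of_forall (T := (U.1 : Scheme.{u})) (fun x ↦ w x.1)
      (exists_constructible_weight_eq f hw U.1 U.2)).2.subset ?_
    rintro _ ⟨x, hx, rfl⟩
    exact ⟨⟨x, hx⟩, rfl⟩
  · rintro _ ⟨x, rfl⟩
    obtain ⟨U, hU, hxU⟩ := Set.mem_iUnion₂.mp (hs (Set.mem_univ x))
    exact Set.mem_iUnion₂.mpr ⟨U, hU, x, hxU, rfl⟩

/-- The fibre integral of a weighting is bounded on the base when the source is quasi-compact. -/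
theorem exists_bound_fibreIntegral [CompactSpace X] {w : X → ℤ} (hw : MoreMor.IsWeighting f w) :
    ∃ B : ℤ, ∀ y, MoreMor.fibreIntegral f w y ≤ B := by
  obtain ⟨b, hb⟩ := (finite_range_weight f hw).bddAbove
  obtain ⟨d, hd⟩ := exists_bound_gpts f
  refine ⟨d * max b 0, fun y₀ ↦ ?_⟩
  obtain ⟨K, _, _, y, rfl⟩ := exists_geomPoint y₀
  have := (hd K y).1
  let := Fintype.ofFinite (GPts f y)
  rw [fibreIntegral_eq f w y _ rfl (finite_fibre_of_finite_gpts f y), finsum_eq_sum_of_fintype]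
  calc ∑ x : GPts f y, w (pt x.1) ≤ ∑ _x : GPts f y, max b 0 :=
        Finset.sum_le_sum fun x _ ↦ (hb ⟨_, rfl⟩).trans (le_max_left _ _)
    _ = Nat.card (GPts f y) * max b 0 := by simp [Nat.card_eq_fintype_card]
    _ ≤ d * max b 0 := mul_le_mul_of_nonneg_right (by exact_mod_cast (hd K y).2) (le_max_right _ _)

theorem exists_max_fibreIntegral [CompactSpace X] [Nonempty Y] {w : X → ℤ}
    (hw : MoreMor.IsWeighting f w) :
    ∃ y₀, ∀ y, MoreMor.fibreIntegral f w y ≤ MoreMor.fibreIntegral f w y₀ := by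
  obtain ⟨B, hB⟩ := exists_bound_fibreIntegral f hw
  obtain ⟨m, ⟨y₀, rfl⟩, hm⟩ := Int.exists_greatest_of_bdd
    (P := fun z ↦ ∃ y, MoreMor.fibreIntegral f w y = z) ⟨B, fun z ⟨y, hy⟩ ↦ hy ▸ hB y⟩
    ⟨_, Classical.arbitrary Y, rfl⟩
  exact ⟨y₀, fun y ↦ hm _ ⟨y, rfl⟩⟩

end Groth.Agent.Weighting
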