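import Groth.Agent.Weighting.Constructible

/-!
# Constructibility of the level sets of fibre integrals
-/

set_option autoImplicit false

universe u

open CategoryTheory CategoryTheory.Limits AlgebraicGeometry IsLocalRing Topology Filter

namespace Groth.Agent.Weighting

variable {X Y : Scheme.{u}} (f : X ⟶ Y) [LocallyQuasiFinite f] [LocallyOfFinitePresentation f]
  [QuasiCompact f] [QuasiSeparated f]

/-- A fibre integral is constant on a constructible neighbourhood of each point. -/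
lemma exists_constructible_fibreIntegral_eq {w : X → ℤ} (hw : MoreMor.IsWeighting f w)
    (U : Y.Opens) (hU : IsAffineOpen U) (t : (U : Scheme.{u})) :
    ∃ C : Set (U : Scheme.{u}), IsConstructible C ∧ t ∈ C ∧
      ∀ t' ∈ C, MoreMor.fibreIntegral f w t'.1 = MoreMor.fibreIntegral f w t.1 := by
  classical
  obtain ⟨K, _, _, y, hy⟩ := exists_geomPoint (U.ι t)
  have := finite_gpts f y (f.finite_preimage_singleton _)
  let := Fintype.ofFinite (GPts f y)
  obtain ⟨V, g, _, v, hv, hpieces⟩ :=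
    exists_common_nbhd f (fun i : GPts f y ↦ i.1) y (fun i ↦ i.2) Finset.univ
  choose W j q hp hpt using fun i ↦ hpieces i (Finset.mem_univ i)
  obtain ⟨N, hN, hNo, hvN⟩ := eventually_nhds_iff.mp
    (eventually_all.mpr fun i ↦ eventually_fibreIntegral_of_isPointed hw (hp i) (hpt i))
  have hvU : pt v ∈ (⟨N, hNo⟩ : V.Opens) ⊓ g ⁻¹ᵁ U :=
    ⟨hvN, show pt (v ≫ g) ∈ (U : Set Y) by rw [hv, hy]; exact t.2⟩
  obtain ⟨V₀', hV₀, hvV, hVle⟩ := TopologicalSpace.Opens.isBasis_iff_nbhd.mp V.isBasis_affineOpens hvU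
  let V₀ : V.Opens := V₀'
  have : IsAffine (V₀ : Scheme.{u}) := hV₀
  have : IsAffine (U : Scheme.{u}) := hU
  let v₀ : Spec (.of K) ⟶ V₀ := IsOpenImmersion.lift V₀.ι v (by
    rintro _ ⟨p, rfl⟩
    rw [Subsingleton.elim (α := PrimeSpectrum K) p (closedPoint K), Scheme.Opens.range_ι]
    exact hvV)
  have hv₀ : v₀ ≫ V₀.ι = v := IsOpenImmersion.lift_fac ..
  let g₀ := V₀.ι ≫ g
  let P := pullback f g₀
  let π : P ⟶ V₀ := pullback.snd f g₀
  have hp₀ := fun i ↦ (hp i).restrictBase V₀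
  have hpt₀ := fun i ↦ (hpt i).baseChange (isPullback_morphismRestrict (q i) V₀).flip (y' := v₀) hv₀
  let W₀ : GPts f y → Scheme.{u} := fun i ↦ (q i ⁻¹ᵁ V₀)
  let q₀ : ∀ i, W₀ i ⟶ V₀ := fun i ↦ q i ∣_ V₀
  let j₀ : ∀ i, W₀ i ⟶ X := fun i ↦ (q i ⁻¹ᵁ V₀).ι ≫ j i
  have hfin : ∀ i, IsFinite (q₀ i) := fun i ↦ (hp₀ i).isFinite
  let k : ∀ i, W₀ i ⟶ P := fun i ↦ pullback.lift (j₀ i) (q₀ i) (hp₀ i).w
  have hko : ∀ i, IsOpenImmersion (k i) := fun i ↦ (hp₀ i).isOpenImmersion_lift
  have hkq : ∀ i, k i ≫ π = q₀ i := fun i ↦ pullback.lift_snd _ _ _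
  have : CompactSpace P := QuasiCompact.compactSpace_of_compactSpace π
  have : QuasiSeparatedSpace P :=
    quasiSeparatedSpace_of_quasiSeparated π
  have hR : ∀ i, IsConstructible (Set.range (k i)) := fun i ↦ by
    have : IsAffine (W₀ i) := isAffine_of_isAffineHom (q₀ i)
    exact (isCompact_range (k i).continuous).isConstructible (k i).isOpenEmbedding.isOpen_range
  let bad : Set P := (⋃ i, Set.range (k i))ᶜ ∪
    ⋃ p : {p : GPts f y × GPts f y // p.1 ≠ p.2}, Set.range (k p.1.1) ∩ Set.range (k p.1.2)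
  have hbad : IsConstructible bad :=
    (isConstructible_compl.mpr (IsConstructible.iUnion hR)).union
      (IsConstructible.iUnion fun p ↦ (hR _).inter (hR _))
  have hCk : ∀ i, ∃ C : Set (V₀ : Scheme.{u}), IsConstructible C ∧ pt v₀ ∈ C ∧
      ∀ v' ∈ C, MoreMor.fibreIntegral (q₀ i) (fun _ ↦ 1) v' ≤ 1 := fun i ↦ by
    have := hfin i
    exact exists_constructible_le_one (q₀ i) _ (le_one_of_isPointed (hpt₀ i))
  choose C₀ hC₀ hvC₀ hC₀le using hCk
  let C : Set (V₀ : Scheme.{u}) := (π '' bad)ᶜ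
  have hC : IsLocallyConstructible C := by
    refine IsConstructible.isLocallyConstructible (isConstructible_compl.mpr ?_)
    exact (π.isLocallyConstructible_image hbad.isLocallyConstructible).isConstructible
  have hvC : pt v₀ ∈ C := by
    rintro ⟨u, hu, hπu⟩
    obtain ⟨a, rfl⟩ := exists_lift π v₀ u hπu
    let i : GPts f y := ⟨a.1 ≫ pullback.fst f g₀, by
      rw [Category.assoc, pullback.condition, ← Category.assoc]
      show (a.1 ≫ π) ≫ g₀ = y
      rw [a.2, ← Category.assoc, hv₀, hv]⟩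
    have hmem : ∀ l, pt a.1 ∈ Set.range (k l) → l = i := by
      intro l hl
      have := hko l
      let b : Spec (.of K) ⟶ W₀ l := IsOpenImmersion.lift (k l) a.1 (by
        rintro _ ⟨p, rfl⟩
        rw [Subsingleton.elim (α := PrimeSpectrum K) p (closedPoint K)]
        exact hl)
      obtain ⟨z, hz, huniq⟩ := hpt₀ l
      have hb := huniq ⟨b, by
        show b ≫ q₀ l = v₀
        rw [← hkq l, IsOpenImmersion.lift_fac_assoc, a.2]⟩
      refine Subtype.ext ?_
      show l.1 = a.1 ≫ pullback.fst f g₀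
      rw [← hz, ← hb]
      show b ≫ j₀ l = _
      rw [← IsOpenImmersion.lift_fac (k l) a.1 _, Category.assoc, pullback.lift_fst]
    rcases hu with hu | hu
    · obtain ⟨z, hz, -⟩ := hpt₀ i
      refine hu (Set.mem_iUnion.mpr ⟨i, pt z.1, ?_⟩)
      show pt (z.1 ≫ k i) = pt a.1
      congr 1
      apply pullback.hom_ext
      · rw [Category.assoc, pullback.lift_fst]; exact hz
      · rw [Category.assoc, pullback.lift_snd]; exact z.2.trans a.2.symm
    · obtain ⟨⟨⟨i₁, i₂⟩, hne⟩, h₁, h₂⟩ := Set.mem_iUnion.mp hu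
      exact hne ((hmem i₁ h₁).trans (hmem i₂ h₂).symm)
  have hC' : IsLocallyConstructible (C ∩ ⋂ i, C₀ i) :=
    hC.inter (IsConstructible.iInter hC₀).isLocallyConstructible
  let b : (V₀ : Scheme.{u}) ⟶ U := g.resLE U V₀ (hVle.trans inf_le_right)
  have : Etale b := by dsimp only [b, Scheme.Hom.resLE]; infer_instance
  have hb : ∀ u, (b u).1 = g u.1 := fun u ↦ by
    show U.ι (b u) = g (V₀.ι u)
    rw [← Scheme.Hom.comp_apply, ← Scheme.Hom.comp_apply, Scheme.Hom.resLE_comp_ι]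
  refine ⟨_, (b.isLocallyConstructible_image hC').isConstructible,
    ⟨pt v₀, ⟨hvC, Set.mem_iInter.mpr hvC₀⟩, Subtype.ext ?_⟩, ?_⟩
  · rw [hb]
    show pt (v₀ ≫ V₀.ι ≫ g) = _
    rw [reassoc_of% hv₀, hv, hy]
    rfl
  rintro _ ⟨v', ⟨hv'C, -⟩, rfl⟩
  rw [hb, show (t.1 : Y) = pt y from hy.symm]
  obtain ⟨L, _, _, y', rfl⟩ := exists_geomPoint v'
  have hfin' : (π ⁻¹' {pt y'}).Finite := π.finite_preimage_singleton _
  have hdisj : ∀ i l, i ≠ l → ∀ u, π u = pt y' → u ∈ Set.range (k i) → u ∉ Set.range (k l) :=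
    fun i l hil u hu h₁ h₂ ↦
      hv'C ⟨u, .inr (Set.mem_iUnion.mpr ⟨⟨(i, l), hil⟩, h₁, h₂⟩), hu⟩
  have := fun i ↦ hfin i
  have key := fibreIntegral_eq_sum_add π W₀ k q₀ hkq (fun p ↦ w (pullback.fst f g₀ p)) y' hfin'
    hdisj
  rw [fibreIntegral_isPullback (IsPullback.of_hasPullback f g₀) w (pt y')
    (f.finite_preimage_singleton _)] at key
  refine key.trans ?_
  rw [fibreIntegral_eq f w y _ rfl (f.finite_preimage_singleton _)]
  conv_rhs => rw [← add_zero (∑ᶠ x : GPts f y, w (pt x.1))]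
  congr 1
  · refine finsum_congr fun i ↦ ?_
    have := (hp i).isFinite
    have h1 := hN _ (hVle (show V₀.ι (pt y') ∈ V₀ from (pt y').2)).1 i
    rw [← h1, ← fibreIntegral_baseChange_finite
      (isPullback_morphismRestrict (q i) V₀).flip (fun u ↦ w (j i u))]
    congr 1
    funext u
    rw [← Scheme.Hom.comp_apply, pullback.lift_fst]
    rfl
  · refine finsum_eq_zero_of_forall_eq_zero fun x ↦ if_pos ?_
    by_contra hne
    exact hv'C ⟨pt x.1, .inl (by simpa using hne), x.map_pt⟩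

/-- Level sets of fibre integrals of weightings are locally constructible. -/
theorem isLocallyConstructible_fibreIntegral {w : X → ℤ} (hw : MoreMor.IsWeighting f w) (n : ℤ) :
    IsLocallyConstructible {y : Y | MoreMor.fibreIntegral f w y = n} := by
  refine IsLocallyConstructible.of_isOpenCover (ι := Y.affineOpens) (U := fun U ↦ U.1)
    (TopologicalSpace.IsOpenCover.mk (iSup_affineOpens_eq_top Y)) fun U ↦ ?_
  have : IsAffine (U.1 : Scheme.{u}) := U.2
  exact ((isConstructible_level_of_forall (T := (U.1 : Scheme.{u}))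
    (fun y ↦ MoreMor.fibreIntegral f w y.1)
    (exists_constructible_fibreIntegral_eq f hw U.1 U.2)).1 n).isLocallyConstructible

end Groth.Agent.Weighting
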