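import Groth.Agent.Weighting.Split
import Mathlib.AlgebraicGeometry.Morphisms.UniversallyOpen
import Mathlib.AlgebraicGeometry.Morphisms.FlatRank

/-!
# Basic properties of weightings: base change, composition, semicontinuity
-/

set_option autoImplicit false

universe u

open CategoryTheory CategoryTheory.Limits AlgebraicGeometry IsLocalRing Topology Filter

namespace Groth.Agent.Weighting

lemma isOpenMap_of_etale {V V' : Scheme.{u}} (h : V' ⟶ V) [Etale h] : IsOpenMap h :=
  h.isOpenMap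

lemma eventually_of_etale {V V' : Scheme.{u}} (h : V' ⟶ V) [Etale h] {v' : V'} {P : V → Prop}
    (hP : ∀ᶠ v in 𝓝 v', P (h v)) : ∀ᶠ v in 𝓝 (h v'), P v :=
  (isOpenMap_of_etale h).nhds_le v' hP

lemma eventually_comap {V V' : Scheme.{u}} (h : V' ⟶ V) {v' : V'} {P : V → Prop}
    (hP : ∀ᶠ v in 𝓝 (h v'), P v) : ∀ᶠ v in 𝓝 v', P (h v) :=
  h.continuous.continuousAt.eventually hP

lemma fibreIntegral_baseChange_finite {V W V' W' : Scheme.{u}} {q : W ⟶ V} [IsFinite q]
    {q' : W' ⟶ V'} {h' : W' ⟶ W} {h : V' ⟶ V} (hW : IsPullback h' q' q h) (w : W → ℤ) (v : V') :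
    MoreMor.fibreIntegral q' (fun u ↦ w (h' u)) v = MoreMor.fibreIntegral q w (h v) := by
  have : IsFinite q' := MorphismProperty.of_isPullback (P := @IsFinite) hW inferInstance
  exact fibreIntegral_isPullback hW w v (q.finite_preimage_singleton _)

variable {X Y : Scheme.{u}} {f : X ⟶ Y} {K : Type u} [Field K] [IsAlgClosed K]

/-- A pointed piece at a geometric point. -/
lemma exists_pointed_piece (f : X ⟶ Y) [LocallyQuasiFinite f] [LocallyOfFiniteType f]
    (x : Spec (.of K) ⟶ X) :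
    ∃ (V W : Scheme.{u}) (g : V ⟶ Y) (_ : Etale g) (j : W ⟶ X) (q : W ⟶ V)
      (v : Spec (.of K) ⟶ V), v ≫ g = x ≫ f ∧ IsPiece f g j q ∧ IsPointed j q v x := by
  obtain ⟨V, W, g, hg, j, q, h, ho, hf, v, z, hz, huniq⟩ := exists_pointed_nbhd f x
  refine ⟨V, W, g, hg, j, q, v, ?_, ⟨h, ho, hf⟩, z, hz, huniq⟩
  rw [← z.2, Category.assoc, ← h, ← Category.assoc, hz]

/-- The fibre integral of a weighting along a pointed piece over an arbitrary base is locally
constant near the point. -/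
lemma eventually_fibreIntegral_of_isPointed [LocallyQuasiFinite f] [LocallyOfFiniteType f]
    {w : X → ℤ} (hw : MoreMor.IsWeighting f w) {V W : Scheme.{u}} {g : V ⟶ Y} {j : W ⟶ X}
    {q : W ⟶ V} (hp : IsPiece f g j q) {v : Spec (.of K) ⟶ V} {x : Spec (.of K) ⟶ X}
    (hx : IsPointed j q v x) :
    ∀ᶠ v' in 𝓝 (pt v), MoreMor.fibreIntegral q (fun u ↦ w (j u)) v' = w (pt x) := by
  obtain ⟨V₁, W₁, g₁, _, j₁, q₁, v₁, hv₁, hp₁, hx₁⟩ := exists_pointed_piece f x
  have := hp.isFinite
  have := hp₁.isFinite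
  obtain ⟨z, hz, -⟩ := id hx
  have hv : v ≫ g = x ≫ f := by
    rw [← z.2, Category.assoc, ← hp.w, ← Category.assoc, hz]
  let v₂ := pullback.lift v v₁ (hv.trans hv₁.symm)
  have hsq := IsPullback.of_hasPullback q (pullback.fst g g₁)
  have hsq₁ := IsPullback.of_hasPullback q₁ (pullback.snd g g₁)
  have hp₂ := hp.baseChange hsq
  have hp₂' : IsPiece f (pullback.fst g g₁ ≫ g) (pullback.fst q₁ (pullback.snd g g₁) ≫ j₁)
      (pullback.snd q₁ (pullback.snd g g₁)) := by
    rw [pullback.condition]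
    exact hp₁.baseChange hsq₁
  obtain ⟨V₀, hv₀, heq⟩ := exists_fibreIntegral_eq_of_isPointed hp₂ hp₂'
    (hx.baseChange hsq (y' := v₂) (pullback.lift_fst _ _ _))
    (hx₁.baseChange hsq₁ (y' := v₂) (pullback.lift_snd _ _ _)) w
  have h1 : ∀ᶠ v' in 𝓝 (pullback.snd g g₁ (pt v₂)),
      MoreMor.fibreIntegral q₁ (fun u ↦ w (j₁ u)) v' = w (pt x) := by
    have : pullback.snd g g₁ (pt v₂) = pt v₁ := by rw [← pt_comp, pullback.lift_snd]
    rw [this, ← hx₁.fibreIntegral_eq w]
    exact IsLocallyConstant.iff_eventually_eq _ |>.mp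
      (locallyConstant_fibreIntegral_of_isPiece hw hp₁) _
  have h2 : ∀ᶠ v' in 𝓝 (pt v₂),
      MoreMor.fibreIntegral q (fun u ↦ w (j u)) (pullback.fst g g₁ v') = w (pt x) := by
    filter_upwards [eventually_comap _ h1, V₀.2.mem_nhds hv₀] with v' h1' hv'
    rw [← h1', ← fibreIntegral_baseChange_finite hsq, ← fibreIntegral_baseChange_finite hsq₁]
    exact heq v' hv'
  have := eventually_of_etale (pullback.fst g g₁) (P := fun v' ↦
    MoreMor.fibreIntegral q (fun u ↦ w (j u)) v' = w (pt x)) h2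
  rwa [← pt_comp, pullback.lift_fst] at this

/-- Fibre integrals of weightings along pieces over arbitrary bases are locally constant. -/
theorem isLocallyConstant_fibreIntegral_piece [LocallyQuasiFinite f] [LocallyOfFiniteType f]
    {w : X → ℤ} (hw : MoreMor.IsWeighting f w) {V W : Scheme.{u}} {g : V ⟶ Y} {j : W ⟶ X}
    {q : W ⟶ V} (hp : IsPiece f g j q) :
    IsLocallyConstant (MoreMor.fibreIntegral q fun u ↦ w (j u)) := by
  rw [IsLocallyConstant.iff_eventually_eq]
  intro v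
  obtain ⟨K, _, _, y, rfl⟩ := exists_geomPoint v
  have := hp.isFinite
  obtain ⟨V', h, _, y', rfl, O, jO, qO, hO, -, hsum⟩ := hp.exists_decomposition y
  have := finite_gpts q (y' ≫ h) (q.finite_preimage_singleton _)
  have h1 : ∀ᶠ v' in 𝓝 (pt y'), ∀ i,
      MoreMor.fibreIntegral (qO i) (fun u ↦ w (jO i u)) v' = w (pt (i.1 ≫ j)) :=
    eventually_all.mpr fun i ↦ eventually_fibreIntegral_of_isPointed hw (hO i).1 (hO i).2
  have h2 := h1.mono fun v' hv' ↦ (hsum w v').trans (finsum_congr hv')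
  have h3 : MoreMor.fibreIntegral q (fun u ↦ w (j u)) (h (pt y')) =
      ∑ᶠ i : GPts q (y' ≫ h), w (pt (i.1 ≫ j)) := h2.self_of_nhds
  have h4 := eventually_of_etale h (P := fun v' ↦ MoreMor.fibreIntegral q (fun u ↦ w (j u)) v' =
    MoreMor.fibreIntegral q (fun u ↦ w (j u)) (h (pt y'))) (h2.mono fun v' hv' ↦ hv'.trans h3.symm)
  exact h4

/-- Base change of weightings. -/
theorem isWeighting_baseChange [LocallyQuasiFinite f] [LocallyOfFiniteType f]
    {w : X → ℤ} (hw : MoreMor.IsWeighting f w) {X' Y' : Scheme.{u}} {f' : X' ⟶ Y'}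
    {hX : X' ⟶ X} {gY : Y' ⟶ Y} (hc : IsPullback hX f' f gY) :
    MoreMor.IsWeighting f' (fun x ↦ w (hX x)) := by
  refine isWeighting_of_isPiece fun V W g _ j q hp ↦ ?_
  have := hp.isFinite
  have hp' : IsPiece f (g ≫ gY) (j ≫ hX) q := by
    have := hp.isOpenImmersion_lift
    exact .of_isPullback (((IsPullback.of_hasPullback f' g).flip.paste_vert hc.flip).flip)
      (pullback.lift j q hp.w) (by simp [pullback.lift_fst_assoc]) (by simp [pullback.lift_snd])
  exact isLocallyConstant_fibreIntegral_piece hw hp'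

end Groth.Agent.Weighting
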