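import Groth.Agent.Weighting.Basic
import Mathlib.Topology.Semicontinuity.Basic
import Mathlib.AlgebraicGeometry.Morphisms.FlatDescent

/-!
# Positive weightings: openness, semicontinuity, finiteness over the maximal locus
-/

set_option autoImplicit false

universe u

open CategoryTheory CategoryTheory.Limits AlgebraicGeometry IsLocalRing Topology Filter

namespace Groth.Agent.Weighting

variable {K : Type u} [Field K] [IsAlgClosed K]

lemma fibreIntegral_of_isEmpty {W V : Scheme.{u}} (q : W ⟶ V) (w : W → ℤ) (v : V)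
    (h : ∀ u, q u ≠ v) : MoreMor.fibreIntegral q w v = 0 := by
  have : IsEmpty {u : W // q u = v} := ⟨fun u ↦ h u.1 u.2⟩
  exact finsum_of_isEmpty _

lemma le_fibreIntegral {W V : Scheme.{u}} (q : W ⟶ V) [LocallyQuasiFinite q] (w : W → ℤ)
    (hw : ∀ u, 0 ≤ w u) (u : W) (hfin : (q ⁻¹' {q u}).Finite) :
    w u ≤ MoreMor.fibreIntegral q w (q u) := by
  classical
  obtain ⟨K, _, _, y, hy⟩ := exists_geomPoint (q u)
  have := finite_gpts q y (hy.symm ▸ hfin)
  obtain ⟨z, rfl⟩ := exists_lift q y u hy.symm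
  let := Fintype.ofFinite (GPts q y)
  rw [fibreIntegral_eq q w y _ hy hfin, finsum_eq_sum_of_fintype]
  exact Finset.single_le_sum (f := fun x : GPts q y ↦ w (pt x.1)) (fun x _ ↦ hw _)
    (Finset.mem_univ z)

variable {X Y : Scheme.{u}} (f : X ⟶ Y) [LocallyQuasiFinite f] [LocallyOfFiniteType f]

/-- A positive weighting forces openness. -/
theorem isOpenMap_of_pos {w : X → ℤ} (hw : MoreMor.IsWeighting f w) (hpos : ∀ x, 0 < w x) :
    IsOpenMap f := by
  intro U hU
  refine isOpen_iff_mem_nhds.mpr ?_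
  rintro _ ⟨x₀, hxU, rfl⟩
  obtain ⟨K, _, _, x, rfl⟩ := exists_geomPoint x₀
  obtain ⟨V, W, g, _, j, q, v, hv, hp, hx⟩ := exists_pointed_piece f x
  have := hp.isFinite
  have hclosed : IsClosed (q '' (j ⁻¹' U)ᶜ) :=
    q.isClosedMap _ (hU.preimage j.continuous).isClosed_compl
  have hnot : pt v ∉ q '' (j ⁻¹' U)ᶜ := by
    rintro ⟨u, hu, hqu⟩
    obtain ⟨z, hz, rfl⟩ := hx.eq_pt hqu
    refine hu ?_
    show pt (z.1 ≫ j) ∈ U
    rw [hz]
    exact hxU
  have h1 : ∀ᶠ v' in 𝓝 (pt v), g v' ∈ f '' U := by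
    filter_upwards [eventually_fibreIntegral_of_isPointed hw hp hx,
      hclosed.isOpen_compl.mem_nhds hnot] with v' hv' hv''
    by_contra hne
    have : MoreMor.fibreIntegral q (fun u ↦ w (j u)) v' = 0 := by
      refine fibreIntegral_of_isEmpty q _ v' fun u hu ↦ ?_
      by_cases hju : j u ∈ U
      · refine hne ⟨j u, hju, ?_⟩
        rw [← Scheme.Hom.comp_apply, hp.w, Scheme.Hom.comp_apply, hu]
      · exact hv'' ⟨u, hju, hu⟩
    have := hpos (pt x)
    omega
  have h2 := eventually_of_etale g (P := fun y ↦ y ∈ f '' U) h1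
  rw [show g (pt v) = f (pt x) by rw [← pt_comp, hv, pt_comp]] at h2
  exact h2

/-- A positive weighting forces universal openness. -/
theorem universallyOpen_of_pos {w : X → ℤ} (hw : MoreMor.IsWeighting f w) (hpos : ∀ x, 0 < w x) :
    UniversallyOpen f := by
  refine ⟨MorphismProperty.universally_mk' _ _ fun g _ ↦ ?_⟩
  exact isOpenMap_of_pos _ (isWeighting_baseChange hw
    (IsPullback.of_hasPullback g f).flip) fun _ ↦ hpos _

/-- A positive weighting is upper semicontinuous. -/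
theorem upperSemicontinuous_of_pos {w : X → ℤ} (hw : MoreMor.IsWeighting f w)
    (hpos : ∀ x, 0 < w x) : UpperSemicontinuous w := by
  intro x₀ c hc
  obtain ⟨K, _, _, x, rfl⟩ := exists_geomPoint x₀
  obtain ⟨V, W, g, _, j, q, v, hv, hp, hx⟩ := exists_pointed_piece f x
  have := hp.isFinite
  obtain ⟨z, hz, -⟩ := id hx
  have h1 : ∀ᶠ v' in 𝓝 (q (pt z.1)), MoreMor.fibreIntegral q (fun u ↦ w (j u)) v' = w (pt x) := by
    rw [z.map_pt]
    exact eventually_fibreIntegral_of_isPointed hw hp hx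
  have h2 : ∀ᶠ u in 𝓝 (pt z.1), w (j u) ≤ w (pt x) := by
    filter_upwards [eventually_comap q h1] with u hu
    rw [← hu]
    exact le_fibreIntegral q (fun u ↦ w (j u)) (fun _ ↦ (hpos _).le) u
      (q.finite_preimage_singleton _)
  have : IsOpenImmersion (pullback.lift j q hp.w) := hp.isOpenImmersion_lift
  have : Etale j := by
    rw [← pullback.lift_fst j q hp.w]
    infer_instance
  have h3 := eventually_of_etale j (P := fun x' ↦ w x' ≤ w (pt x)) h2
  rw [show j (pt z.1) = pt x by rw [← pt_comp, hz]] at h3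
  exact h3.mono fun x' hx' ↦ lt_of_le_of_lt hx' hc

omit [LocallyOfFiniteType f] in
open Classical in
lemma fibreIntegral_eq_sum_add {ι : Type*} [Finite ι] {P V : Scheme.{u}} (π : P ⟶ V)
    [LocallyQuasiFinite π] (W : ι → Scheme.{u}) (k : ∀ i, W i ⟶ P) [∀ i, IsOpenImmersion (k i)]
    (q : ∀ i, W i ⟶ V) [∀ i, LocallyQuasiFinite (q i)] (hq : ∀ i, k i ≫ π = q i)
    (w : P → ℤ) (y : Spec (.of K) ⟶ V) (hfin : (π ⁻¹' {pt y}).Finite)
    (hdisj : ∀ i l, i ≠ l → ∀ u, π u = pt y → u ∈ Set.range (k i) → u ∉ Set.range (k l)) :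
    MoreMor.fibreIntegral π w (pt y) =
      (∑ᶠ i, MoreMor.fibreIntegral (q i) (fun u ↦ w (k i u)) (pt y)) +
        ∑ᶠ x : GPts π y, if ∃ i, pt x.1 ∈ Set.range (k i) then 0 else w (pt x.1) := by
  classical
  obtain rfl : q = fun i ↦ k i ≫ π := funext fun i ↦ (hq i).symm
  have := finite_gpts π y hfin
  let := Fintype.ofFinite (GPts π y)
  let := Fintype.ofFinite ι
  rw [finsum_congr fun i ↦ fibreIntegral_open (k i) π w y hfin, fibreIntegral_eq π w y _ rfl hfin]
  simp only [finsum_eq_sum_of_fintype]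
  rw [Finset.sum_comm, ← Finset.sum_add_distrib]
  refine Finset.sum_congr rfl fun x _ ↦ ?_
  by_cases h : ∃ i, pt x.1 ∈ Set.range (k i)
  · obtain ⟨i, hi⟩ := h
    rw [if_pos ⟨i, hi⟩, add_zero, Finset.sum_eq_single i (fun l _ hl ↦ if_neg (hdisj i l
      (Ne.symm hl) _ x.map_pt hi)) (by simp), if_pos hi]
  · rw [if_neg h, Finset.sum_eq_zero fun i _ ↦ if_neg fun hi ↦ h ⟨i, hi⟩, zero_add]

/-- Near a point, the fibre integral is the fibre integral of disjoint finite pieces through the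
points of the fibre, plus a remainder. -/
lemma exists_nbhd_fibre [IsSeparated f] {w : X → ℤ} (hw : MoreMor.IsWeighting f w)
    (y : Spec (.of K) ⟶ Y) (hfin : (f ⁻¹' {pt y}).Finite) :
    ∃ (V : Scheme.{u}) (g : V ⟶ Y) (_ : Etale g) (v : Spec (.of K) ⟶ V), v ≫ g = y ∧
      ∃ (W : GPts f y → Scheme.{u}) (k : ∀ i, W i ⟶ pullback f g),
        (∀ i, IsOpenImmersion (k i) ∧ IsFinite (k i ≫ pullback.snd f g)) ∧
        ∀ᶠ v' in 𝓝 (pt v),
          (∀ i l, i ≠ l → ∀ u, pullback.snd f g u = v' → u ∈ Set.range (k i) →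
            u ∉ Set.range (k l)) ∧
          (∑ᶠ i, MoreMor.fibreIntegral (k i ≫ pullback.snd f g)
            (fun u ↦ w (pullback.fst f g (k i u))) v') = MoreMor.fibreIntegral f w (pt y) := by
  classical
  have := finite_gpts f y hfin
  let := Fintype.ofFinite (GPts f y)
  obtain ⟨V, g, _, v, hv, hpieces⟩ :=
    exists_common_nbhd f (fun i : GPts f y ↦ i.1) y (fun i ↦ i.2) Finset.univ
  choose W j q hp hpt using fun i ↦ hpieces i (Finset.mem_univ i)
  let k : ∀ i, W i ⟶ pullback f g := fun i ↦ pullback.lift (j i) (q i) (hp i).w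
  have hko : ∀ i, IsOpenImmersion (k i) := fun i ↦ (hp i).isOpenImmersion_lift
  have hkq : ∀ i, k i ≫ pullback.snd f g = q i := fun i ↦ pullback.lift_snd _ _ _
  have hkj : ∀ i, k i ≫ pullback.fst f g = j i := fun i ↦ pullback.lift_fst _ _ _
  have hkf : ∀ i, IsFinite (k i ≫ pullback.snd f g) := fun i ↦ (hkq i).symm ▸ (hp i).isFinite
  refine ⟨V, g, inferInstance, v, hv, W, k, fun i ↦ ⟨hko i, hkf i⟩, ?_⟩
  have hd : ∀ i l, i ≠ l → ∀ᶠ v' in 𝓝 (pt v),
      ∀ u, pullback.snd f g u = v' → u ∈ Set.range (k i) → u ∉ Set.range (k l) := by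
    intro i l hil
    have := hko i
    have := hko l
    have := hkf i
    have := hkf l
    have : IsFinite (k l) := .of_comp _ (pullback.snd f g)
    have hcl : IsClosed ((k i ≫ pullback.snd f g) '' (k i ⁻¹' Set.range (k l))) :=
      (k i ≫ pullback.snd f g).isClosedMap _
        ((k l).isClosedMap.isClosed_range.preimage (k i).continuous)
    refine Filter.mem_of_superset (hcl.isOpen_compl.mem_nhds ?_) fun v' hv' u hu hui hul ↦ ?_
    rotate_left
    · obtain ⟨a, rfl⟩ := hui
      exact hv' ⟨a, hul, by rw [Scheme.Hom.comp_apply, hu]⟩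
    rintro ⟨u, ⟨u', hu'⟩, hqu⟩
    have : LocallyQuasiFinite (q i) := by have := (hp i).isFinite; infer_instance
    have : LocallyQuasiFinite (q l) := by have := (hp l).isFinite; infer_instance
    obtain ⟨z, hz, hzu⟩ := (hpt i).eq_pt (u := u) (by rw [← hqu, ← hkq])
    have hu'v : q l u' = pt v := by
      rw [← hqu, ← hkq, Scheme.Hom.comp_apply, hu', ← Scheme.Hom.comp_apply]
    obtain ⟨z', hz', hzu'⟩ := (hpt l).eq_pt hu'v
    -- both geometric points lie at the same point of the fibre product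
    let a : Spec (.of K) ⟶ (k l).opensRange := IsOpenImmersion.lift (k l).opensRange.ι (z.1 ≫ k i)
      (by
        rintro _ ⟨p, rfl⟩
        rw [Subsingleton.elim (α := PrimeSpectrum K) p (closedPoint K), Scheme.Opens.range_ι]
        exact ⟨u', by rw [hu', ← hzu]; rfl⟩)
    let b : GPts (q l) v := ⟨a ≫ (k l).isoOpensRange.inv, by
      rw [← hkq l, Category.assoc, ← Category.assoc _ (k l), Scheme.Hom.isoOpensRange_inv_comp,
        IsOpenImmersion.lift_fac_assoc, Category.assoc, hkq, z.2]⟩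
    obtain ⟨z'', hz'', huniq⟩ := hpt l
    have hb : b.1 ≫ j l = l.1 := by rw [huniq b, ← huniq z', hz']
    refine hil (Subtype.ext ?_)
    rw [← hz, ← hb, ← hkj i, ← hkj l]
    simp only [b, Category.assoc, Scheme.Hom.isoOpensRange_inv_comp_assoc, a,
      IsOpenImmersion.lift_fac_assoc]
  have hd' : ∀ᶠ v' in 𝓝 (pt v), ∀ i l, i ≠ l → ∀ u, pullback.snd f g u = v' →
      u ∈ Set.range (k i) → u ∉ Set.range (k l) := by
    refine eventually_all.mpr fun i ↦ eventually_all.mpr fun l ↦ ?_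
    by_cases hil : i = l
    · exact Eventually.of_forall fun _ h ↦ (h hil).elim
    · exact (hd i l hil).mono fun _ h _ ↦ h
  refine hd'.and ?_
  have h1 : ∀ᶠ v' in 𝓝 (pt v), ∀ i, MoreMor.fibreIntegral (q i) (fun u ↦ w (j i u)) v' =
      w (pt i.1) :=
    eventually_all.mpr fun i ↦ eventually_fibreIntegral_of_isPointed hw (hp i) (hpt i)
  refine h1.mono fun v' hv' ↦ ?_
  rw [fibreIntegral_eq f w y _ rfl hfin]
  refine finsum_congr fun i ↦ ?_
  rw [← hv' i]
  simp only [← Scheme.Hom.comp_apply, hkj, hkq]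

lemma fibreIntegral_pullback_snd {V : Scheme.{u}} (g : V ⟶ Y) (w : X → ℤ) (v' : V)
    (hfin : (f ⁻¹' {g v'}).Finite) :
    MoreMor.fibreIntegral (pullback.snd f g) (fun u ↦ w (pullback.fst f g u)) v' =
      MoreMor.fibreIntegral f w (g v') :=
  fibreIntegral_isPullback (IsPullback.of_hasPullback f g) w v' hfin

omit [IsAlgClosed K] [Field K] in
lemma finite_preimage_pullback_snd {V : Scheme.{u}} (g : V ⟶ Y) (v' : V)
    (hfin : (f ⁻¹' {g v'}).Finite) : (pullback.snd f g ⁻¹' {v'}).Finite := by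
  obtain ⟨L, _, _, y', rfl⟩ := exists_geomPoint v'
  have := finite_gpts f (y' ≫ g) hfin
  have : Finite (GPts (pullback.snd f g) y') :=
    Finite.of_equiv _ (GPts.pullbackEquiv (IsPullback.of_hasPullback f g) y').symm
  exact finite_fibre_of_finite_gpts _ y'

/-- Fibre integrals of positive weightings of separated morphisms are lower semicontinuous. -/
theorem lowerSemicontinuous_of_pos [IsSeparated f] (hfin : ∀ y, (f ⁻¹' {y}).Finite) {w : X → ℤ}
    (hw : MoreMor.IsWeighting f w) (hpos : ∀ x, 0 < w x) :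
    LowerSemicontinuous (MoreMor.fibreIntegral f w) := by
  classical
  intro y₀ c hc
  obtain ⟨K, _, _, y, rfl⟩ := exists_geomPoint y₀
  have := finite_gpts f y (hfin _)
  obtain ⟨V, g, _, v, rfl, W, k, hk, hev⟩ := exists_nbhd_fibre f hw y (hfin _)
  refine (eventually_of_etale g (P := fun y' ↦ c < MoreMor.fibreIntegral f w y')
    (hev.mono fun v' ⟨hdisj, hsum⟩ ↦ hc.trans_le ?_) : ∀ᶠ y' in 𝓝 (g (pt v)), _)
  have := fun i ↦ (hk i).1
  have := fun i ↦ (hk i).2
  obtain ⟨L, _, _, y', rfl⟩ := exists_geomPoint v'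
  have hfin' := finite_preimage_pullback_snd f g (pt y') (hfin _)
  rw [← fibreIntegral_pullback_snd f g w (pt y') (hfin _),
    fibreIntegral_eq_sum_add (pullback.snd f g) W k _ (fun _ ↦ rfl) _ y' hfin' hdisj, ← hsum]
  have := finite_gpts (pullback.snd f g) y' hfin'
  exact le_add_of_nonneg_right (finsum_nonneg fun x ↦ by split_ifs <;> [rfl; exact (hpos _).le])

/-- The locus where the fibre integral takes its maximal value is open with finite preimage. -/
theorem isFinite_max_locus [IsSeparated f] (hfin : ∀ y, (f ⁻¹' {y}).Finite) {w : X → ℤ}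
    (hw : MoreMor.IsWeighting f w) (hpos : ∀ x, 0 < w x) (d : ℤ)
    (hmax : ∀ y, MoreMor.fibreIntegral f w y ≤ d) :
    ∃ hYd : IsOpen {y : Y | MoreMor.fibreIntegral f w y = d},
      IsFinite (f ∣_ ⟨{y : Y | MoreMor.fibreIntegral f w y = d}, hYd⟩) := by
  classical
  have hYd : IsOpen {y : Y | MoreMor.fibreIntegral f w y = d} := by
    convert lowerSemicontinuous_iff_isOpen_preimage.mp (lowerSemicontinuous_of_pos f hfin hw hpos)
      (d - 1) using 1
    ext y
    have := hmax y
    simp only [Set.mem_setOf_eq, Set.mem_preimage, Set.mem_Ioi]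
    omega
  refine ⟨hYd, ?_⟩
  let Yd : Y.Opens := ⟨_, hYd⟩
  have hloc : ∀ y : Yd, ∃ U : (Yd : Scheme.{u}).Opens, y ∈ U ∧
      UniversallyClosed ((f ∣_ Yd) ∣_ U) := by
    rintro ⟨y₀, hy₀⟩
    obtain ⟨K, _, _, y, rfl⟩ := exists_geomPoint y₀
    have := finite_gpts f y (hfin _)
    let := Fintype.ofFinite (GPts f y)
    obtain ⟨V, g, _, v, rfl, W, k, hk, hev⟩ := exists_nbhd_fibre f hw y (hfin _)
    have := fun i ↦ (hk i).1
    have := fun i ↦ (hk i).2
    have hmem : g (pt v) ∈ Yd := hy₀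
    obtain ⟨V₀, hV₀, hV₀open, hvV₀⟩ :=
      eventually_nhds_iff.mp (hev.and ((g ⁻¹ᵁ Yd).2.mem_nhds hmem))
    let V' : V.Opens := ⟨V₀, hV₀open⟩
    let π := pullback.snd f g
    -- the pieces cover the fibres over `V'`
    have hcov : ∀ u : (π ⁻¹ᵁ V'), ∃ i, u.1 ∈ Set.range (k i) := by
      rintro ⟨u, hu⟩
      obtain ⟨⟨hdisj, hsum⟩, hd⟩ := hV₀ _ hu
      obtain ⟨L, _, _, y', hy'⟩ := exists_geomPoint (π u)
      rw [← hy'] at hdisj hsum hd
      have hfin' := finite_preimage_pullback_snd f g (pt y') (hfin _)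
      have := finite_gpts π y' hfin'
      have key := fibreIntegral_eq_sum_add π W k _ (fun _ ↦ rfl)
        (fun p ↦ w (pullback.fst f g p)) y' hfin' hdisj
      rw [fibreIntegral_pullback_snd f g w (pt y') (hfin _), hsum,
        show MoreMor.fibreIntegral f w (g (pt y')) = d from hd,
        show MoreMor.fibreIntegral f w (pt (v ≫ g)) = d from hy₀, left_eq_add] at key
      obtain ⟨z, hz⟩ := exists_lift π y' u hy'.symm
      by_contra hne
      have := single_le_finsum z (Set.toFinite _)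
        (f := fun x : GPts π y' ↦ if ∃ i, pt x.1 ∈ Set.range (k i) then (0 : ℤ)
          else w (pullback.fst f g (pt x.1)))
        (fun x ↦ by split_ifs <;> [rfl; exact (hpos _).le])
      rw [if_neg (by rw [hz]; exact hne)] at this
      refine absurd (le_of_le_of_eq this ?_) (not_le.mpr (hpos (pullback.fst f g (pt z.1))))
      convert key using 4
    have huc : UniversallyClosed (π ∣_ V') := by
      have hs : ∀ s : Finset (GPts f (v ≫ g)), ∃ (Z : Scheme.{u}) (p : Z ⟶ (π ⁻¹ᵁ V' : Scheme.{u})),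
          IsFinite (p ≫ π ∣_ V') ∧
          ∀ i ∈ s, ∀ u : (π ⁻¹ᵁ V' : Scheme.{u}), u.1 ∈ Set.range (k i) →
            u ∈ Set.range p := by
        intro s
        induction s using Finset.induction_on with
        | empty =>
          exact ⟨((⊥ : (π ⁻¹ᵁ V' : Scheme.{u}).Opens) : Scheme.{u}), (⊥ : (π ⁻¹ᵁ V' : Scheme.{u}).Opens).ι,
            (by
              have : IsEmpty (((⊥ : (π ⁻¹ᵁ V' : Scheme.{u}).Opens) : Scheme.{u})) :=
                ⟨fun x ↦ x.2⟩
              infer_instance), by simp⟩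
        | insert a s ha ih =>
          obtain ⟨Z, p, hp, hps⟩ := ih
          let O : (π ⁻¹ᵁ V' : Scheme.{u}).Opens := (π ⁻¹ᵁ V').ι ⁻¹ᵁ (k a).opensRange
          have : IsFinite (O.ι ≫ π ∣_ V') := by
            have hsq : IsPullback ((π ⁻¹ᵁ V').ι ∣_ (k a).opensRange) (O.ι ≫ π ∣_ V')
                ((k a).opensRange.ι ≫ π) V'.ι :=
              (isPullback_morphismRestrict (π ⁻¹ᵁ V').ι (k a).opensRange).paste_vert
                (isPullback_morphismRestrict π V').flip
            refine MorphismProperty.of_isPullback (P := @IsFinite) hsq ?_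
            rw [← MorphismProperty.cancel_left_of_respectsIso @IsFinite (k a).isoOpensRange.hom,
              Scheme.Hom.isoOpensRange_hom_ι_assoc]
            exact (hk a).2
          refine ⟨Z ⨿ (O : Scheme.{u}), coprod.desc p O.ι, ?_, fun i hi u hu ↦ ?_⟩
          · rw [coprod.desc_comp]
            infer_instance
          · rcases Finset.mem_insert.mp hi with rfl | hi
            · exact ⟨(coprod.inr : (O : Scheme.{u}) ⟶ Z ⨿ (O : Scheme.{u})) ⟨u, hu⟩, by
                rw [← Scheme.Hom.comp_apply, coprod.inr_desc]; rfl⟩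
            · obtain ⟨z, rfl⟩ := hps i hi u hu
              exact ⟨(coprod.inl : Z ⟶ Z ⨿ (O : Scheme.{u})) z, by
                rw [← Scheme.Hom.comp_apply, coprod.inl_desc]⟩
      obtain ⟨Z, p, hp, hps⟩ := hs Finset.univ
      have : Surjective p := ⟨fun u ↦ by
        obtain ⟨i, hi⟩ := hcov u
        exact hps i (Finset.mem_univ i) u hi⟩
      exact .of_comp_surjective p _
    -- descend along the etale map onto an open neighbourhood
    let U : Y.Opens := ⟨g '' V₀, isOpenMap_of_etale g _ hV₀open⟩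
    let gU : (V' : Scheme.{u}) ⟶ U := IsOpenImmersion.lift U.ι (V'.ι ≫ g) (by
      rw [Scheme.Opens.range_ι]
      rintro _ ⟨a, rfl⟩
      exact ⟨a.1, a.2, rfl⟩)
    have hgU : gU ≫ U.ι = V'.ι ≫ g := IsOpenImmersion.lift_fac ..
    have : Etale (gU ≫ U.ι) := by rw [hgU]; infer_instance
    have : Etale gU := MorphismProperty.of_postcomp (W' := @IsOpenImmersion) _ gU U.ι
      inferInstance ‹_›
    have : Surjective gU := ⟨fun ⟨a, b, hb, hba⟩ ↦ ⟨⟨b, hb⟩, Subtype.ext (by
      show (gU ≫ U.ι) ⟨b, hb⟩ = a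
      rw [hgU]
      exact hba)⟩⟩
    have hsq : IsPullback ((π ⁻¹ᵁ V').ι ≫ pullback.fst f g) (π ∣_ V') f (V'.ι ≫ g) :=
      (isPullback_morphismRestrict π V').flip.paste_horiz (IsPullback.of_hasPullback f g)
    rw [← hgU] at hsq
    have hsq' := IsPullback.of_bot' hsq.flip (isPullback_morphismRestrict f U)
    have huU : UniversallyClosed (f ∣_ U) :=
      MorphismProperty.of_isPullback_of_descendsAlong
        (Q := @Surjective ⊓ @Flat ⊓ @LocallyOfFinitePresentation) hsq'
        ⟨⟨inferInstance, inferInstance⟩, inferInstance⟩ huc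
    refine ⟨Yd.ι ⁻¹ᵁ U, ⟨pt v, hvV₀, rfl⟩, ?_⟩
    have hUYd : U ≤ Yd := by rintro _ ⟨a, ha, rfl⟩; exact (hV₀ a ha).2
    refine (MorphismProperty.arrow_mk_iso_iff @UniversallyClosed
      (morphismRestrictRestrict f Yd _ ≪≫ morphismRestrictEq f ?_)).mpr huU
    ext1
    simp only [Scheme.Hom.coe_image, TopologicalSpace.Opens.map_coe]
    exact Set.image_preimage_eq_of_subset fun a ha ↦ ⟨⟨a, hUYd ha⟩, rfl⟩
  choose U hU hUC using hloc
  have : UniversallyClosed (f ∣_ Yd) :=
    IsZariskiLocalAtTarget.of_iSup_eq_top U (top_le_iff.mp fun y _ ↦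
      TopologicalSpace.Opens.mem_iSup.mpr ⟨y, hU y⟩) hUC
  have : IsProper (f ∣_ Yd) := {}
  exact IsFinite.of_isProper_of_locallyQuasiFinite (f ∣_ Yd)

end Groth.Agent.Weighting
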