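import Groth.Agent.Weighting.Basic

/-!
# Composition of weightings
-/

set_option autoImplicit false

universe u

open CategoryTheory CategoryTheory.Limits AlgebraicGeometry IsLocalRing Topology Filter

namespace Groth.Agent.Weighting

variable {X Y Z V O Q : Scheme.{u}} {f : X ⟶ Y} {g : Y ⟶ Z} {gg : V ⟶ Z} {a : O ⟶ X} {p : O ⟶ V}
  {b : Q ⟶ Y} {s : Q ⟶ V} {K : Type u} [Field K] [IsAlgClosed K]

lemma IsPiece.etale_left [Etale gg] (hQ : IsPiece g gg b s) : Etale b := by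
  have := hQ.isOpenImmersion_lift
  rw [← pullback.lift_fst b s hQ.w]
  infer_instance

/-- A compatible map between pieces of `f ≫ g` and `g` is a piece of `f`. -/
lemma IsPiece.of_comp (hO : IsPiece (f ≫ g) gg a p) (hQ : IsPiece g gg b s) (m : O ⟶ Q)
    (hmb : m ≫ b = a ≫ f) (hms : m ≫ s = p) : IsPiece f b a m := by
  have := hQ.isFinite
  have : IsFinite (m ≫ s) := by rw [hms]; exact hO.isFinite
  have hm : IsFinite m := .of_comp m s
  have := hQ.isOpenImmersion_lift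
  let kQ := pullback.lift b s hQ.w
  have hT : IsPullback (pullback.fst f (pullback.fst g gg))
      (pullback.snd f (pullback.fst g gg) ≫ pullback.snd g gg) (f ≫ g) gg :=
    (IsPullback.of_hasPullback f (pullback.fst g gg)).paste_vert (IsPullback.of_hasPullback g gg)
  have := hO.isOpenImmersion_isPullbackLift hT
  let n : pullback f b ⟶ pullback f (pullback.fst g gg) :=
    pullback.map f b f (pullback.fst g gg) (𝟙 X) kQ (𝟙 Y) (by simp)
      (by simp [kQ, pullback.lift_fst])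
  have : IsOpenImmersion n := by dsimp only [n]; infer_instance
  refine ⟨hmb.symm, ?_, hm⟩
  have : IsOpenImmersion (pullback.lift a m hmb.symm ≫ n) := by
    have e : pullback.lift a m hmb.symm ≫ n = hT.lift a p hO.w := by
      refine hT.hom_ext ?_ ?_
      · simp [n, pullback.lift_fst, pullback.lift_fst_assoc]
      · simp [n, kQ, pullback.lift_snd, pullback.lift_snd_assoc, hms]
    rw [e]
    infer_instance
  exact IsOpenImmersion.of_comp _ n

lemma eventually_fibreIntegral_of_map [LocallyQuasiFinite f] [LocallyOfFiniteType f] [Etale gg]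
    {wf : X → ℤ} {wg : Y → ℤ} (hf : MoreMor.IsWeighting f wf) (hg : MoreMor.IsWeighting g wg)
    (hO : IsPiece (f ≫ g) gg a p) (hQ : IsPiece g gg b s) (m : O ⟶ Q) (hmb : m ≫ b = a ≫ f)
    (hms : m ≫ s = p) {v : Spec (.of K) ⟶ V} {y : Spec (.of K) ⟶ Y} (hy : IsPointed b s v y) :
    ∀ᶠ v' in 𝓝 (pt v), MoreMor.fibreIntegral p (fun u ↦ wf (a u) * wg (f (a u))) v' =
      MoreMor.fibreIntegral p (fun u ↦ wf (a u) * wg (f (a u))) (pt v) := by
  classical
  have := hQ.isFinite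
  have := hO.isFinite
  have := hQ.etale_left
  have hm := hO.of_comp hQ m hmb hms
  have := hm.isFinite
  let c : Q → ℤ := MoreMor.fibreIntegral m fun u ↦ wf (a u)
  have hc : IsLocallyConstant c := locallyConstant_fibreIntegral_of_isPiece hf hm
  obtain ⟨z, hz, huniq⟩ := id hy
  let c₀ := c (pt z.1)
  have hN : IsOpen {u | c u = c₀} := hc.isOpen_fiber c₀
  have hcl : IsClosed (s '' {u | c u = c₀}ᶜ) := s.isClosedMap _ hN.isClosed_compl
  have hnot : pt v ∉ s '' {u | c u = c₀}ᶜ := by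
    rintro ⟨u, hu, hsu⟩
    obtain ⟨z', -, rfl⟩ := hy.eq_pt hsu
    exact hu (by rw [huniq z']; rfl)
  have key : ∀ v' ∈ (s '' {u | c u = c₀}ᶜ)ᶜ,
      MoreMor.fibreIntegral p (fun u ↦ wf (a u) * wg (f (a u))) v' =
        c₀ * MoreMor.fibreIntegral s (fun u ↦ wg (b u)) v' := by
    intro v' hv'
    obtain ⟨L, _, _, y', rfl⟩ := exists_geomPoint v'
    subst hms
    have := finite_gpts s y' (s.finite_preimage_singleton _)
    have : ∀ i : GPts s y', Finite (GPts m i.1) := fun i ↦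
      finite_gpts m i.1 (m.finite_preimage_singleton _)
    have := finite_gpts (m ≫ s) y' ((m ≫ s).finite_preimage_singleton _)
    rw [fibreIntegral_eq (m ≫ s) _ y' _ rfl ((m ≫ s).finite_preimage_singleton _),
      fibreIntegral_eq s _ y' _ rfl (s.finite_preimage_singleton _)]
    let := Fintype.ofFinite (GPts s y')
    let := fun i : GPts s y' ↦ Fintype.ofFinite (GPts m i.1)
    let := Fintype.ofFinite (GPts (m ≫ s) y')
    simp only [finsum_eq_sum_of_fintype, Finset.mul_sum]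
    rw [← (GPts.compEquiv m s y').symm.sum_comp, Fintype.sum_sigma]
    refine Finset.sum_congr rfl fun i _ ↦ ?_
    have hci : c (pt i.1) = c₀ := by
      by_contra hne
      exact hv' ⟨pt i.1, hne, i.map_pt⟩
    rw [← hci]
    show ∑ x : GPts m i.1, wf (a (pt x.1)) * wg (f (a (pt x.1))) = _
    rw [show c (pt i.1) = _ from fibreIntegral_eq m _ i.1 _ rfl (m.finite_preimage_singleton _),
      finsum_eq_sum_of_fintype, Finset.sum_mul]
    refine Finset.sum_congr rfl fun x _ ↦ ?_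
    rw [← x.map_pt, ← Scheme.Hom.comp_apply m b, hmb]
    rfl
  filter_upwards [hcl.isOpen_compl.mem_nhds hnot,
    IsLocallyConstant.iff_eventually_eq _ |>.mp
      (locallyConstant_fibreIntegral_of_isPiece hg hQ) (pt v)] with v' hv' hv''
  rw [key v' hv', key _ hnot, hv'']

lemma eventually_fibreIntegral_comp [LocallyQuasiFinite f] [LocallyOfFiniteType f]
    [LocallyQuasiFinite g] [LocallyOfFiniteType g] [Etale gg]
    {wf : X → ℤ} {wg : Y → ℤ} (hf : MoreMor.IsWeighting f wf) (hg : MoreMor.IsWeighting g wg)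
    (hO : IsPiece (f ≫ g) gg a p) {v : Spec (.of K) ⟶ V} {x : Spec (.of K) ⟶ X}
    (hx : IsPointed a p v x) :
    ∀ᶠ v' in 𝓝 (pt v), MoreMor.fibreIntegral p (fun u ↦ wf (a u) * wg (f (a u))) v' =
      MoreMor.fibreIntegral p (fun u ↦ wf (a u) * wg (f (a u))) (pt v) := by
  have := hO.isFinite
  obtain ⟨zO, hzO, -⟩ := id hx
  obtain ⟨V₁, Q, g₁, _, b, s, v₁, hv₁, hQ, hy⟩ := exists_pointed_piece g (x ≫ f)
  have := hQ.isFinite
  have hv : v ≫ gg = v₁ ≫ g₁ := by
    rw [hv₁, ← hzO]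
    simp only [Category.assoc]
    rw [hO.w, ← Category.assoc, zO.2]
  let v₂ := pullback.lift v v₁ hv
  have hsqO := IsPullback.of_hasPullback p (pullback.fst gg g₁)
  have hsqQ := IsPullback.of_hasPullback s (pullback.snd gg g₁)
  have hO₂ := hO.baseChange hsqO
  have hx₂ := hx.baseChange hsqO (y' := v₂) (pullback.lift_fst _ _ _)
  have hQ₂ : IsPiece g (pullback.fst gg g₁ ≫ gg) (pullback.fst s (pullback.snd gg g₁) ≫ b)
      (pullback.snd s (pullback.snd gg g₁)) := by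
    rw [pullback.condition]
    exact hQ.baseChange hsqQ
  have hy₂ := hy.baseChange hsqQ (y' := v₂) (pullback.lift_snd _ _ _)
  set a₂ := pullback.fst p (pullback.fst gg g₁) ≫ a
  set p₂ := pullback.snd p (pullback.fst gg g₁) with hp₂def
  set b₂ := pullback.fst s (pullback.snd gg g₁) ≫ b
  set s₂ := pullback.snd s (pullback.snd gg g₁)
  set gg₂ := pullback.fst gg g₁ ≫ gg
  have := hQ₂.isOpenImmersion_lift
  have := hO₂.isFinite
  let kQ := pullback.lift b₂ s₂ hQ₂.w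
  let m₀ : pullback p (pullback.fst gg g₁) ⟶ pullback g gg₂ :=
    pullback.lift (a₂ ≫ f) p₂ (by rw [Category.assoc, hO₂.w])
  have hcl : IsClosed (p₂ '' (m₀ ⁻¹' Set.range kQ)ᶜ) :=
    p₂.isClosedMap _ (kQ.isOpenEmbedding.isOpen_range.preimage m₀.continuous).isClosed_compl
  have hnot : pt v₂ ∉ p₂ '' (m₀ ⁻¹' Set.range kQ)ᶜ := by
    rintro ⟨u, hu, hqu⟩
    obtain ⟨z, hz, rfl⟩ := hx₂.eq_pt hqu
    obtain ⟨zQ, hzQ, -⟩ := id hy₂
    refine hu ⟨pt zQ.1, ?_⟩
    show pt (zQ.1 ≫ kQ) = pt (z.1 ≫ m₀)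
    congr 1
    apply pullback.hom_ext
    · rw [Category.assoc, Category.assoc, pullback.lift_fst, pullback.lift_fst, hzQ,
        ← Category.assoc, hz]
    · rw [Category.assoc, Category.assoc, pullback.lift_snd, pullback.lift_snd, z.2, zQ.2]
  let V₃ : (pullback gg g₁).Opens := ⟨(p₂ '' (m₀ ⁻¹' Set.range kQ)ᶜ)ᶜ, hcl.isOpen_compl⟩
  let v₃ : Spec (.of K) ⟶ V₃ := IsOpenImmersion.lift V₃.ι v₂ (by
    rintro _ ⟨t, rfl⟩
    rw [Subsingleton.elim (α := PrimeSpectrum K) t (closedPoint K), Scheme.Opens.range_ι]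
    exact hnot)
  have hv₃ : v₃ ≫ V₃.ι = v₂ := IsOpenImmersion.lift_fac ..
  have hO₃ := hO₂.restrictBase V₃
  have hQ₃ := hQ₂.restrictBase V₃
  let m₁ : (p₂ ⁻¹ᵁ V₃ : Scheme.{u}) ⟶ pullback s (pullback.snd gg g₁) :=
    IsOpenImmersion.lift kQ ((p₂ ⁻¹ᵁ V₃).ι ≫ m₀) (by
      rintro _ ⟨t, rfl⟩
      by_contra h
      exact t.2 ⟨t.1, h, rfl⟩)
  have hm₁ : m₁ ≫ kQ = (p₂ ⁻¹ᵁ V₃).ι ≫ m₀ := IsOpenImmersion.lift_fac ..
  have hm₁s : m₁ ≫ s₂ = (p₂ ∣_ V₃) ≫ V₃.ι := by
    rw [← pullback.lift_snd b₂ s₂ hQ₂.w, ← Category.assoc, hm₁, Category.assoc,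
      pullback.lift_snd, morphismRestrict_ι]
  have hm₁b : m₁ ≫ b₂ = (p₂ ⁻¹ᵁ V₃).ι ≫ a₂ ≫ f := by
    rw [← pullback.lift_fst b₂ s₂ hQ₂.w, ← Category.assoc, hm₁, Category.assoc,
      pullback.lift_fst]
  have hsq₃ := (isPullback_morphismRestrict s₂ V₃).flip
  let m := hsq₃.lift m₁ (p₂ ∣_ V₃) hm₁s
  have key := eventually_fibreIntegral_of_map hf hg hO₃ hQ₃ m
    (by rw [hsq₃.lift_fst_assoc, hm₁b, Category.assoc]; simp [a₂]) (hsq₃.lift_snd _ _ _)
    (hy₂.baseChange hsq₃ (y' := v₃) hv₃)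
  have hFI : ∀ u : V₃, MoreMor.fibreIntegral (p₂ ∣_ V₃)
      (fun t ↦ wf (((p₂ ⁻¹ᵁ V₃).ι ≫ a₂) t) * wg (f (((p₂ ⁻¹ᵁ V₃).ι ≫ a₂) t))) u =
      MoreMor.fibreIntegral p (fun t ↦ wf (a t) * wg (f (a t)))
        (pullback.fst gg g₁ (V₃.ι u)) := by
    intro u
    rw [← fibreIntegral_baseChange_finite hsqO, ← fibreIntegral_baseChange_finite
      (isPullback_morphismRestrict p₂ V₃).flip]
    rfl
  simp only [hFI] at key
  have h2 := eventually_of_etale (V₃.ι ≫ pullback.fst gg g₁)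
    (P := fun v' ↦ MoreMor.fibreIntegral p (fun t ↦ wf (a t) * wg (f (a t))) v' =
      MoreMor.fibreIntegral p (fun t ↦ wf (a t) * wg (f (a t)))
        (pullback.fst gg g₁ (V₃.ι (pt v₃)))) key
  have e : pullback.fst gg g₁ (V₃.ι (pt v₃)) = pt v := by
    rw [← pt_comp, ← pt_comp, hv₃, pullback.lift_fst]
  rw [show (V₃.ι ≫ pullback.fst gg g₁) (pt v₃) = pt v from e, e] at h2
  exact h2

/-- Composition of weightings. -/
theorem isWeighting_comp [LocallyQuasiFinite f] [LocallyOfFiniteType f]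
    [LocallyQuasiFinite g] [LocallyOfFiniteType g]
    {wf : X → ℤ} {wg : Y → ℤ} (hf : MoreMor.IsWeighting f wf) (hg : MoreMor.IsWeighting g wg) :
    MoreMor.IsWeighting (f ≫ g) (fun x ↦ wf x * wg (f x)) := by
  refine isWeighting_of_isPiece fun V W gV _ j q hp ↦ ?_
  rw [IsLocallyConstant.iff_eventually_eq]
  intro v
  obtain ⟨K, _, _, y, rfl⟩ := exists_geomPoint v
  have := hp.isFinite
  obtain ⟨V', h, _, y', rfl, O, jO, qO, hO, -, hsum⟩ := hp.exists_decomposition y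
  have := finite_gpts q (y' ≫ h) (q.finite_preimage_singleton _)
  have h1 : ∀ᶠ v' in 𝓝 (pt y'), ∀ i,
      MoreMor.fibreIntegral (qO i) (fun u ↦ wf (jO i u) * wg (f (jO i u))) v' =
      MoreMor.fibreIntegral (qO i) (fun u ↦ wf (jO i u) * wg (f (jO i u))) (pt y') :=
    eventually_all.mpr fun i ↦ eventually_fibreIntegral_comp hf hg (hO i).1 (hO i).2
  have hsum' := hsum (fun x ↦ wf x * wg (f x))
  exact eventually_of_etale h (P := fun v' ↦
    MoreMor.fibreIntegral q (fun u ↦ wf (j u) * wg (f (j u))) v' =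
      MoreMor.fibreIntegral q (fun u ↦ wf (j u) * wg (f (j u))) (h (pt y')))
    (h1.mono fun v' hv' ↦ by rw [hsum' v', hsum' (pt y')]; exact finsum_congr hv')

end Groth.Agent.Weighting
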