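import Groth.Agent.Weighting.Nbhd
import Mathlib.CategoryTheory.Limits.Shapes.Pullback.IsPullback.Basic

/-!
# Pieces: finite parts of étale base changes, and weightings
-/

set_option autoImplicit false

universe u

open CategoryTheory CategoryTheory.Limits AlgebraicGeometry IsLocalRing

namespace Groth.Agent.Weighting

/-- `W` is an open subscheme of `X ×_Y V` finite over `V`. -/
def IsPiece {X Y V W : Scheme.{u}} (f : X ⟶ Y) (g : V ⟶ Y) (j : W ⟶ X) (q : W ⟶ V) : Prop :=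
  ∃ h : j ≫ f = q ≫ g, IsOpenImmersion (pullback.lift j q h) ∧ IsFinite q

/-- Exactly one `K`-point lies over `y`, and it maps to `x`. -/
def IsPointed {X V W : Scheme.{u}} (j : W ⟶ X) (q : W ⟶ V) {K : Type u} [Field K]
    (y : Spec (.of K) ⟶ V) (x : Spec (.of K) ⟶ X) : Prop :=
  ∃ z : GPts q y, z.1 ≫ j = x ∧ ∀ z', z' = z

variable {X Y V W : Scheme.{u}} {f : X ⟶ Y} {g : V ⟶ Y} {j : W ⟶ X} {q : W ⟶ V}

lemma IsPiece.w (hp : IsPiece f g j q) : j ≫ f = q ≫ g := hp.choose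

lemma IsPiece.isFinite (hp : IsPiece f g j q) : IsFinite q := hp.choose_spec.2

lemma IsPiece.isOpenImmersion_lift (hp : IsPiece f g j q) :
    IsOpenImmersion (pullback.lift j q hp.w) := hp.choose_spec.1

lemma IsPiece.of_isPullback {P : Scheme.{u}} {a : P ⟶ X} {b : P ⟶ V} (hc : IsPullback a b f g)
    (k : W ⟶ P) [IsOpenImmersion k] (hj : k ≫ a = j) (hq : k ≫ b = q) [IsFinite q] :
    IsPiece f g j q := by
  have h : j ≫ f = q ≫ g := by rw [← hj, ← hq, Category.assoc, Category.assoc, hc.w]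
  refine ⟨h, ?_, inferInstance⟩
  have : pullback.lift j q h = k ≫ hc.isoPullback.hom := by
    apply pullback.hom_ext <;> simp [pullback.lift_fst, pullback.lift_snd, hj, hq]
  rw [this]
  infer_instance

lemma IsPiece.isOpenImmersion_isPullbackLift {P : Scheme.{u}} {a : P ⟶ X} {b : P ⟶ V}
    (hp : IsPiece f g j q) (hc : IsPullback a b f g) : IsOpenImmersion (hc.lift j q hp.w) := by
  have : hc.lift j q hp.w = pullback.lift j q hp.w ≫ hc.isoPullback.inv := by
    refine hc.hom_ext ?_ ?_ <;> simp [pullback.lift_fst, pullback.lift_snd]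
  rw [this]
  have := hp.isOpenImmersion_lift
  infer_instance

lemma IsPiece.baseChange (hp : IsPiece f g j q) {V' W' : Scheme.{u}} {h : V' ⟶ V} {h' : W' ⟶ W}
    {q' : W' ⟶ V'} (hW : IsPullback h' q' q h) : IsPiece f (h ≫ g) (h' ≫ j) q' := by
  have hfin : IsFinite q' := MorphismProperty.of_isPullback (P := @IsFinite) hW hp.isFinite
  let m : pullback f (h ≫ g) ⟶ pullback f g :=
    pullback.map f (h ≫ g) f g (𝟙 X) h (𝟙 Y) (by simp) (by simp)
  have hm : IsPullback m (pullback.snd f (h ≫ g)) (pullback.snd f g) h := by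
    refine IsPullback.of_right (h₁₂ := pullback.fst f g) ?_ (by simp [m, pullback.lift_snd])
      (IsPullback.of_hasPullback f g)
    simpa [m, pullback.lift_fst] using IsPullback.of_hasPullback f (h ≫ g)
  have hw : (h' ≫ j) ≫ f = q' ≫ h ≫ g := by
    rw [Category.assoc, hp.w, reassoc_of% hW.w]
  refine ⟨hw, ?_, hfin⟩
  have hk : IsPullback h' (pullback.lift (h' ≫ j) q' hw) (pullback.lift j q hp.w) m := by
    refine IsPullback.of_bot ?_ ?_ hm
    · simpa [pullback.lift_snd] using hW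
    · refine pullback.hom_ext ?_ ?_ <;> simp [m, pullback.lift_fst, pullback.lift_snd, pullback.lift_snd_assoc, hW.w]
  exact MorphismProperty.of_isPullback (P := @IsOpenImmersion) hk hp.isOpenImmersion_lift

lemma IsPiece.restrictBase (hp : IsPiece f g j q) (V₀ : V.Opens) :
    IsPiece f (V₀.ι ≫ g) ((q ⁻¹ᵁ V₀).ι ≫ j) (q ∣_ V₀) :=
  hp.baseChange (isPullback_morphismRestrict q V₀).flip

lemma IsPiece.openSub (hp : IsPiece f g j q) {O : Scheme.{u}} (i : O ⟶ W) [IsOpenImmersion i]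
    [IsFinite (i ≫ q)] : IsPiece f g (i ≫ j) (i ≫ q) := by
  have := hp.isOpenImmersion_lift
  exact .of_isPullback (IsPullback.of_hasPullback f g) (i ≫ pullback.lift j q hp.w) (by simp [pullback.lift_fst])
    (by simp [pullback.lift_snd])

lemma IsPointed.baseChange {K : Type u} [Field K] {y : Spec (.of K) ⟶ V} {x : Spec (.of K) ⟶ X}
    (hx : IsPointed j q y x) {V' W' : Scheme.{u}} {h : V' ⟶ V} {h' : W' ⟶ W} {q' : W' ⟶ V'}
    (hW : IsPullback h' q' q h) {y' : Spec (.of K) ⟶ V'} (hy : y' ≫ h = y) :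
    IsPointed (h' ≫ j) q' y' x := by
  subst hy
  obtain ⟨z, hz, huniq⟩ := hx
  let e := GPts.pullbackEquiv hW y'
  refine ⟨e.symm z, ?_, fun z' ↦ e.injective (by rw [e.apply_symm_apply]; exact huniq _)⟩
  rw [← hz]
  have : (e.symm z).1 ≫ h' = z.1 := congr(Subtype.val $(e.apply_symm_apply z))
  rw [reassoc_of% this]

section Weighting

lemma locallyConstant_fibreIntegral_of_isPiece {w : X → ℤ} (hw : MoreMor.IsWeighting f w)
    [Etale g] (hp : IsPiece f g j q) :
    IsLocallyConstant (MoreMor.fibreIntegral q fun u ↦ w (j u)) := by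
  have := hp.isFinite
  have := hp.isOpenImmersion_lift
  let k := pullback.lift j q hp.w
  have hU : k.isoOpensRange.hom ≫ k.opensRange.ι ≫ pullback.snd f g = q := by simp [k, pullback.lift_snd]
  have : IsFinite (k.opensRange.ι ≫ pullback.snd f g) := by
    rw [← MorphismProperty.cancel_left_of_respectsIso @IsFinite k.isoOpensRange.hom, hU]
    infer_instance
  have hsq : IsPullback k.isoOpensRange.hom q (k.opensRange.ι ≫ pullback.snd f g) (𝟙 V) :=
    .of_horiz_isIso ⟨by rw [hU, Category.comp_id]⟩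
  have key := hw V g k.opensRange this
  convert key using 1
  funext v
  refine Eq.trans ?_ (fibreIntegral_isPullback hsq _ v
    ((k.opensRange.ι ≫ pullback.snd f g).finite_preimage_singleton v))
  congr 1
  funext u
  simp [← Scheme.Hom.comp_apply, -Scheme.Hom.comp_base, k, pullback.lift_fst]

lemma isWeighting_of_isPiece {w : X → ℤ}
    (h : ∀ (V W : Scheme.{u}) (g : V ⟶ Y) [Etale g] (j : W ⟶ X) (q : W ⟶ V), IsPiece f g j q →
      IsLocallyConstant (MoreMor.fibreIntegral q fun u ↦ w (j u))) :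
    MoreMor.IsWeighting f w := fun V g _ U hU ↦
  h V U g (U.ι ≫ pullback.fst f g) (U.ι ≫ pullback.snd f g)
    (.of_isPullback (IsPullback.of_hasPullback f g) U.ι rfl rfl)

end Weighting

lemma isLocallyConstant_of_forall_exists_opens {α : Type*} {T : Scheme.{u}} (F : T → α)
    (h : ∀ t : T, ∃ U : T.Opens, t ∈ U ∧ ∀ t' ∈ U, F t' = F t) : IsLocallyConstant F :=
  (IsLocallyConstant.iff_exists_open F).mpr fun t ↦
    let ⟨U, hU, hU'⟩ := h t; ⟨U, U.2, hU, hU'⟩

section Field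

variable {K : Type u} [Field K] [IsAlgClosed K]

/-- The points over `y` of a pointed piece. -/
lemma IsPointed.eq_pt {y : Spec (.of K) ⟶ V} {x : Spec (.of K) ⟶ X} (hx : IsPointed j q y x)
    [LocallyQuasiFinite q] {u : W} (hu : q u = pt y) :
    ∃ z : GPts q y, z.1 ≫ j = x ∧ pt z.1 = u := by
  obtain ⟨z, hz, huniq⟩ := hx
  obtain ⟨z', hz'⟩ := exists_lift q y u hu
  exact ⟨z, hz, by rw [← huniq z', hz']⟩

lemma IsPointed.fibreIntegral_eq {y : Spec (.of K) ⟶ V} {x : Spec (.of K) ⟶ X}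
    (hx : IsPointed j q y x) [LocallyQuasiFinite q] (w : X → ℤ) :
    MoreMor.fibreIntegral q (fun u ↦ w (j u)) (pt y) = w (pt x) := by
  obtain ⟨z, rfl, huniq⟩ := hx
  rw [fibreIntegral_of_unique q _ y z huniq]
  rfl

open Classical in
lemma finsum_gpts_open {P : Scheme.{u}} (k : W ⟶ P) [IsOpenImmersion k] (π : P ⟶ V)
    (hk : k ≫ π = q) (w : P → ℤ) (y : Spec (.of K) ⟶ V) :
    ∑ᶠ x : GPts q y, w (k (pt x.1)) =
      ∑ᶠ x : {x : GPts π y // pt x.1 ∈ Set.range k}, w (pt x.1.1) := by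
  subst hk
  exact finsum_eq_of_bijective _ (GPts.openEquiv k π y).bijective fun x ↦ rfl

/-- Pointed pieces at the same point have the same fibre integrals nearby. -/
lemma exists_fibreIntegral_eq_of_isPointed {W₂ : Scheme.{u}} {j₂ : W₂ ⟶ X} {q₂ : W₂ ⟶ V}
    (hp₁ : IsPiece f g j q) (hp₂ : IsPiece f g j₂ q₂) {y : Spec (.of K) ⟶ V}
    {x : Spec (.of K) ⟶ X} (hx₁ : IsPointed j q y x) (hx₂ : IsPointed j₂ q₂ y x) (w : X → ℤ) :
    ∃ V₀ : V.Opens, pt y ∈ V₀ ∧ ∀ v ∈ V₀,
      MoreMor.fibreIntegral q (fun u ↦ w (j u)) v =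
        MoreMor.fibreIntegral q₂ (fun u ↦ w (j₂ u)) v := by
  have := hp₁.isFinite
  have := hp₂.isFinite
  have := hp₁.isOpenImmersion_lift
  have := hp₂.isOpenImmersion_lift
  let k₁ := pullback.lift j q hp₁.w
  let k₂ := pullback.lift j₂ q₂ hp₂.w
  let B₁ := q '' (k₁ ⁻¹' Set.range k₂)ᶜ
  let B₂ := q₂ '' (k₂ ⁻¹' Set.range k₁)ᶜ
  have hB : IsClosed (B₁ ∪ B₂) :=
    (q.isClosedMap _ (k₂.isOpenEmbedding.isOpen_range.preimage k₁.continuous).isClosed_compl).union
      (q₂.isClosedMap _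
        (k₁.isOpenEmbedding.isOpen_range.preimage k₂.continuous).isClosed_compl)
  obtain ⟨z₁, hz₁, -⟩ := id hx₁
  obtain ⟨z₂, hz₂, -⟩ := id hx₂
  have hk : z₁.1 ≫ k₁ = z₂.1 ≫ k₂ := by
    apply pullback.hom_ext <;> simp [k₁, k₂, pullback.lift_fst, pullback.lift_snd, hz₁, hz₂, z₁.2, z₂.2]
  refine ⟨⟨(B₁ ∪ B₂)ᶜ, hB.isOpen_compl⟩, ?_, fun v hv ↦ ?_⟩
  · rintro (⟨u, hu, hqu⟩ | ⟨u, hu, hqu⟩)
    · obtain ⟨z, hz, rfl⟩ := hx₁.eq_pt hqu
      refine hu ⟨pt z₂.1, ?_⟩
      have : z = z₁ := by obtain ⟨_, _, h⟩ := hx₁; exact (h z).trans (h z₁).symm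
      subst this
      exact (congrArg pt hk).symm
    · obtain ⟨z, hz, rfl⟩ := hx₂.eq_pt hqu
      refine hu ⟨pt z₁.1, ?_⟩
      have : z = z₂ := by obtain ⟨_, _, h⟩ := hx₂; exact (h z).trans (h z₂).symm
      subst this
      exact congrArg pt hk
  · obtain ⟨L, _, _, y₁, rfl⟩ := exists_geomPoint v
    have e₁ : q = k₁ ≫ pullback.snd f g := by simp [k₁, pullback.lift_snd]
    have e₂ : q₂ = k₂ ≫ pullback.snd f g := by simp [k₂, pullback.lift_snd]
    have a₁ : ∀ u, j u = pullback.fst f g (k₁ u) := fun u ↦ by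
      simp [← Scheme.Hom.comp_apply, -Scheme.Hom.comp_base, k₁, pullback.lift_fst]
    have a₂ : ∀ u, j₂ u = pullback.fst f g (k₂ u) := fun u ↦ by
      simp [← Scheme.Hom.comp_apply, -Scheme.Hom.comp_base, k₂, pullback.lift_fst]
    have hiff : ∀ p : GPts (pullback.snd f g) y₁,
        pt p.1 ∈ Set.range k₁ ↔ pt p.1 ∈ Set.range k₂ := by
      refine fun p ↦ ⟨?_, ?_⟩
      · rintro ⟨u, hu⟩
        by_contra hne
        refine hv (.inl ⟨u, fun h ↦ hne (hu ▸ h), ?_⟩)
        rw [e₁, Scheme.Hom.comp_apply, hu, p.map_pt]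
      · rintro ⟨u, hu⟩
        by_contra hne
        refine hv (.inr ⟨u, fun h ↦ hne (hu ▸ h), ?_⟩)
        rw [e₂, Scheme.Hom.comp_apply, hu, p.map_pt]
    rw [fibreIntegral_eq q _ y₁ _ rfl (q.finite_preimage_singleton _),
      fibreIntegral_eq q₂ _ y₁ _ rfl (q₂.finite_preimage_singleton _)]
    simp only [a₁, a₂]
    rw [finsum_gpts_open k₁ _ e₁.symm (fun p ↦ w (pullback.fst f g p)),
      finsum_gpts_open k₂ _ e₂.symm (fun p ↦ w (pullback.fst f g p))]
    exact finsum_eq_of_bijective _ (Equiv.subtypeEquivRight hiff).bijective fun _ ↦ rfl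

end Field

end Groth.Agent.Weighting
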