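import Mathlib.RingTheory.Etale.QuasiFinite
import Mathlib.RingTheory.Etale.StandardEtale
import Mathlib.FieldTheory.PurelyInseparable.Basic
import Mathlib.FieldTheory.PrimitiveElement
import Mathlib.FieldTheory.IsAlgClosed.Basic

/-!
# Étale neighbourhoods isolating a geometric point of a quasi-finite algebra
-/

set_option autoImplicit false

universe u

open TensorProduct Polynomial

namespace Groth.Agent.Weighting

attribute [local instance] RingHom.ker_isPrime Localization.AtPrime.algebraOfLiesOver

variable {R S K : Type u} [CommRing R] [CommRing S] [Field K]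

/-- A point valued in a field induces an embedding of the residue field of its kernel. -/
noncomputable def residueLift (φ : R →+* K) (p : Ideal R) [p.IsPrime] (h : RingHom.ker φ = p) :
    p.ResidueField →+* K :=
  Ideal.ResidueField.lift p φ (le_of_eq h.symm)
    (fun r hr ↦ isUnit_iff_ne_zero.mpr fun h' ↦ hr (h.le (RingHom.mem_ker.mpr h')))

lemma residueLift_algebraMap (φ : R →+* K) (p : Ideal R) [p.IsPrime] (h : RingHom.ker φ = p)
    (r : R) : residueLift φ p h (algebraMap R _ r) = φ r :=
  Ideal.ResidueField.lift_algebraMap _ _ _ _ _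

variable [Algebra R S] [Algebra R K]

/-- A simple root of a monic polynomial over the base separating a geometric point from the others
through the same prime. -/
lemma exists_separating [Algebra.FiniteType R S] (x : S →ₐ[R] K)
    [Algebra.QuasiFiniteAt R (RingHom.ker x.toRingHom)] :
    ∃ (P : R[X]) (s : S), P.Monic ∧ aeval (x s) P = 0 ∧ aeval (x s) P.derivative ≠ 0 ∧
      ∀ x' : S →ₐ[R] K, RingHom.ker x'.toRingHom = RingHom.ker x.toRingHom →
        x' s = x s → x' = x := by
  classical
  let p := RingHom.ker (algebraMap R K)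
  let q := RingHom.ker x.toRingHom
  have hpq : p = q.under R := by
    ext r
    simp [p, q, Ideal.under]
  have : q.LiesOver p := ⟨hpq⟩
  let fp : p.ResidueField →+* K := residueLift (algebraMap R K) p rfl
  let _ := fp.toAlgebra
  have : IsScalarTower R p.ResidueField K :=
    .of_algebraMap_eq fun r ↦ (residueLift_algebraMap _ _ _ r).symm
  have hfin : Module.Finite p.ResidueField q.ResidueField := inferInstance
  have hlift : ∀ x' : S →ₐ[R] K, RingHom.ker x'.toRingHom = q →
      ∃ g : q.ResidueField →ₐ[p.ResidueField] K, ∀ s, g (algebraMap S _ s) = x' s := by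
    intro x' hx'
    let g₀ := residueLift x'.toRingHom q hx'
    refine ⟨{ g₀ with commutes' := fun z ↦ ?_ }, fun s ↦ residueLift_algebraMap x'.toRingHom q hx' s⟩
    have h : g₀.comp (algebraMap p.ResidueField q.ResidueField) =
        algebraMap p.ResidueField K := by
      refine Ideal.ResidueField.ringHom_ext (RingHom.ext fun r ↦ ?_)
      simp only [RingHom.comp_apply, ← IsScalarTower.algebraMap_apply]
      rw [IsScalarTower.algebraMap_apply R S q.ResidueField, residueLift_algebraMap]
      exact x'.commutes r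
    exact congr($h z)
  let E := separableClosure p.ResidueField q.ResidueField
  have : FiniteDimensional p.ResidueField E := inferInstance
  obtain ⟨θ, hθ⟩ := Field.exists_primitive_element p.ResidueField E
  obtain ⟨f₀, hf₀⟩ := Ideal.Fiber.lift_residueField_surjective p q (θ : q.ResidueField)
  obtain ⟨r, hr, s₀, hs₀⟩ := Ideal.Fiber.exists_smul_eq_one_tmul p f₀
  have hrp : algebraMap R p.ResidueField r ≠ 0 := mt Ideal.algebraMap_residueField_eq_zero.mp hr
  let θ₁ : q.ResidueField := algebraMap R p.ResidueField r • (θ : q.ResidueField)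
  have hθ₁ : θ₁ = algebraMap S q.ResidueField s₀ := by
    have := congr((Algebra.TensorProduct.lift (Algebra.ofId p.ResidueField q.ResidueField)
      (IsScalarTower.toAlgHom R S q.ResidueField) fun _ _ ↦ .all _ _) $hs₀)
    rw [← algebraMap_smul p.ResidueField r, map_smul, hf₀] at this
    simpa [θ₁] using this
  have hsep : IsSeparable p.ResidueField θ₁ := by
    rw [← mem_separableClosure_iff]
    exact E.smul_mem θ.2
  let m := minpoly p.ResidueField θ₁
  have hm : m.Monic := minpoly.monic (IsIntegral.of_finite _ _)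
  obtain ⟨⟨c', hc'⟩, hc⟩ := IsLocalization.exist_integer_multiples (nonZeroDivisors (R ⧸ p))
    m.support fun i ↦ m.coeff i
  obtain ⟨c, rfl⟩ := Ideal.Quotient.mk_surjective c'
  have hcp : algebraMap R p.ResidueField c ≠ 0 := by
    rw [Ne, Ideal.algebraMap_residueField_eq_zero, ← Ideal.Quotient.eq_zero_iff_mem]
    exact nonZeroDivisors.ne_zero hc'
  let ck := algebraMap R p.ResidueField c
  let m' := m.scaleRoots ck
  have hlifts : m' ∈ Polynomial.lifts (algebraMap R p.ResidueField) := by
    rw [Polynomial.lifts_iff_coeff_lifts]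
    intro i
    rw [coeff_scaleRoots]
    by_cases hi : i ∈ m.support
    · rcases (le_natDegree_of_mem_supp i hi).lt_or_eq with hlt | rfl
      · obtain ⟨a, ha⟩ := hc i hi
        obtain ⟨a, rfl⟩ := Ideal.Quotient.mk_surjective a
        refine ⟨a * c ^ (m.natDegree - i - 1), ?_⟩
        have hk : m.natDegree - i = (m.natDegree - i - 1) + 1 := by omega
        rw [map_mul, map_pow, hk, pow_succ, ← Ideal.algebraMap_quotient_residueField_mk, ha,
          Algebra.smul_def, Ideal.algebraMap_quotient_residueField_mk, add_tsub_cancel_right]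
        ring
      · exact ⟨1, by simp [hm.coeff_natDegree]⟩
    · exact ⟨0, by simp [notMem_support_iff.mp hi]⟩
  obtain ⟨P, hP, -, hPm⟩ := Polynomial.lifts_and_natDegree_eq_and_monic hlifts
    ((monic_scaleRoots_iff _).mpr hm)
  let θ₂ : q.ResidueField := ck • θ₁
  have hθ₂ : θ₂ = algebraMap S q.ResidueField (c • s₀) := by
    simp [θ₂, ck, hθ₁, Algebra.smul_def, ← IsScalarTower.algebraMap_apply]
  have hroot : aeval θ₂ m' = 0 := by
    rw [show θ₂ = algebraMap p.ResidueField q.ResidueField ck * θ₁ from Algebra.smul_def _ _]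
    exact scaleRoots_aeval_eq_zero (minpoly.aeval _ _)
  have hsep₂ : IsSeparable p.ResidueField θ₂ := by
    rw [← mem_separableClosure_iff]
    exact E.smul_mem (mem_separableClosure_iff.mpr hsep)
  have hint₂ : IsIntegral p.ResidueField θ₂ := IsIntegral.of_finite _ _
  have hmin : m' = minpoly p.ResidueField θ₂ := by
    suffices h : (m.scaleRoots ck).natDegree ≤ (minpoly p.ResidueField θ₂).natDegree by
      exact (eq_of_monic_of_dvd_of_natDegree_le (minpoly.monic hint₂)
        ((monic_scaleRoots_iff _).mpr hm) (minpoly.dvd _ _ hroot) h)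
    rw [natDegree_scaleRoots]
    have h0 : aeval θ₁ ((minpoly p.ResidueField θ₂).scaleRoots ck⁻¹) = 0 := by
      have := scaleRoots_aeval_eq_zero (r := ck⁻¹) (minpoly.aeval p.ResidueField θ₂)
      rwa [← Algebra.smul_def, inv_smul_smul₀ hcp] at this
    calc m.natDegree ≤ _ := natDegree_le_of_dvd (minpoly.dvd _ _ h0)
          ((monic_scaleRoots_iff _).mpr (minpoly.monic hint₂)).ne_zero
      _ = _ := natDegree_scaleRoots _ _
  obtain ⟨g, hg⟩ := hlift x rfl
  have hxs : x (c • s₀) = g θ₂ := by rw [hθ₂, hg]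
  refine ⟨P, c • s₀, hPm, ?_, ?_, ?_⟩
  · rw [← aeval_map_algebraMap p.ResidueField, hP, hxs, aeval_algHom_apply, hroot, map_zero]
  · rw [← aeval_map_algebraMap p.ResidueField, ← derivative_map, hP, hxs, aeval_algHom_apply,
      _root_.map_ne_zero, hmin]
    exact hsep₂.aeval_derivative_ne_zero (minpoly.aeval _ _)
  · intro x' hx' hs
    obtain ⟨g', hg'⟩ := hlift x' hx'
    have hθ2eq : g' θ₂ = g θ₂ := by rw [hθ₂, hg, hg', hs]
    have hEeq : ∀ e : E, g' e = g e := by
      have h1 : g' θ = g θ := by
        have e : θ₂ = (ck * algebraMap R p.ResidueField r) • (θ : q.ResidueField) := by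
          rw [mul_smul]
        rw [e, map_smul, map_smul] at hθ2eq
        exact smul_right_injective K (mul_ne_zero hcp hrp) hθ2eq
      intro e
      have hcomp : g'.comp E.val = g.comp E.val := by
        refine AlgHom.ext fun e ↦ ?_
        have he : e ∈ IntermediateField.adjoin p.ResidueField {θ} := hθ ▸ IntermediateField.mem_top
        induction he using IntermediateField.adjoin_induction with
        | mem z hz => obtain rfl : z = θ := hz; exact h1
        | algebraMap z => simp
        | add a b _ _ ha hb => simp only [map_add, ha, hb]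
        | inv a _ ha => simp only [map_inv₀, ha]
        | mul a b _ _ ha hb => simp only [map_mul, ha, hb]
      exact congr($hcomp e)
    have : IsPurelyInseparable E q.ResidueField := separableClosure.isPurelyInseparable _ _
    have hgg : g'.toRingHom = g.toRingHom :=
      IsPurelyInseparable.injective_comp_algebraMap E q.ResidueField K
        (RingHom.ext fun e ↦ hEeq e)
    ext s
    rw [← hg, ← hg']
    exact congr($hgg (algebraMap S _ s))

/-- Étale neighbourhoods isolating a geometric point of a quasi-finite algebra. -/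
theorem exists_etale_nbhd_algHom [Algebra.FiniteType R S] (x : S →ₐ[R] K)
    [Algebra.QuasiFiniteAt R (RingHom.ker x.toRingHom)] :
    ∃ (R' : Type u) (_ : CommRing R') (_ : Algebra R R') (_ : Algebra.Etale R R')
      (v : R' →ₐ[R] K) (e : R' ⊗[R] S),
      IsIdempotentElem e ∧ Module.Finite R' (Localization.Away e) ∧
      Algebra.TensorProduct.lift v x (fun _ _ ↦ .all _ _) e ≠ 0 ∧
      ∀ x' : S →ₐ[R] K,
        Algebra.TensorProduct.lift v x' (fun _ _ ↦ .all _ _) e ≠ 0 → x' = x := by
  classical
  obtain ⟨P, s, hPm, hPx, hPx', huniq⟩ := exists_separating x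
  let SP : StandardEtalePair R :=
    { f := P
      monic_f := hPm
      g := P.derivative
      cond := ⟨1, 0, 1, by simp⟩ }
  let v₂ : SP.Ring →ₐ[R] K := SP.lift (x s) ⟨hPx, isUnit_iff_ne_zero.mpr hPx'⟩
  let φ₂ : (S →ₐ[R] K) → (SP.Ring ⊗[R] S →ₐ[R] K) := fun x' ↦
    Algebra.TensorProduct.lift v₂ x' fun _ _ ↦ .all _ _
  let q := RingHom.ker x.toRingHom
  let q₂ : Ideal (SP.Ring ⊗[R] S) := RingHom.ker (φ₂ x).toRingHom
  have hq₂ : q = q₂.comap Algebra.TensorProduct.includeRight.toRingHom := by
    ext a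
    simp [q, q₂, φ₂]
  have : Algebra.QuasiFiniteAt SP.Ring q₂ := .baseChange q _ hq₂
  let p₂ : Ideal SP.Ring := RingHom.ker v₂.toRingHom
  have : q₂.LiesOver p₂ := ⟨by ext a; simp [q₂, p₂, φ₂, Ideal.under]⟩
  obtain ⟨R₃, _, _, _, P₃, _, _, e, he, P', _, _, hP'q, heP', hbij, hfin, hP'uniq⟩ :=
    Algebra.exists_etale_isIdempotentElem_forall_liesOver_eq p₂ q₂
  let _ : Algebra R R₃ := ((algebraMap SP.Ring R₃).comp (algebraMap R SP.Ring)).toAlgebra
  have : IsScalarTower R SP.Ring R₃ := .of_algebraMap_eq fun _ ↦ rfl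
  have : Algebra.Etale R R₃ := .comp R SP.Ring R₃
  let j : P₃.ResidueField →+* K := (residueLift v₂.toRingHom p₂ rfl).comp
    (RingEquiv.ofBijective (Ideal.ResidueField.mapₐ p₂ P₃ (Algebra.ofId _ _)
      (P₃.over_def p₂)).toRingHom hbij).symm.toRingHom
  have hj : ∀ a : SP.Ring, j (algebraMap SP.Ring P₃.ResidueField a) = v₂ a := by
    intro a
    have h1 : Ideal.ResidueField.mapₐ p₂ P₃ (Algebra.ofId _ _) (P₃.over_def p₂)
        (algebraMap SP.Ring p₂.ResidueField a) = algebraMap SP.Ring P₃.ResidueField a :=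
      AlgHom.commutes _ a
    simp only [j, RingHom.comp_apply]
    rw [← h1]
    refine Eq.trans (congrArg (residueLift v₂.toRingHom p₂ rfl) ?_)
      (residueLift_algebraMap v₂.toRingHom p₂ rfl a)
    exact RingEquiv.symm_apply_apply (RingEquiv.ofBijective
      (Ideal.ResidueField.mapₐ p₂ P₃ (Algebra.ofId _ _) (P₃.over_def p₂)).toRingHom hbij) (algebraMap SP.Ring p₂.ResidueField a)
  let v₃ : R₃ →ₐ[R] K :=
    { toRingHom := j.comp (algebraMap R₃ P₃.ResidueField)
      commutes' := fun r ↦ by
        show j (algebraMap R₃ P₃.ResidueField (algebraMap SP.Ring R₃ (algebraMap R SP.Ring r))) = _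
        rw [← IsScalarTower.algebraMap_apply SP.Ring R₃ P₃.ResidueField, hj, v₂.commutes] }
  have hv₃ : ∀ a, v₃ (algebraMap SP.Ring R₃ a) = v₂ a := fun a ↦ by
    show j (algebraMap R₃ P₃.ResidueField (algebraMap SP.Ring R₃ a)) = _
    rw [← IsScalarTower.algebraMap_apply SP.Ring R₃ P₃.ResidueField, hj]
  have hkerv₃ : RingHom.ker v₃.toRingHom = P₃ := by
    ext a
    show j (algebraMap R₃ P₃.ResidueField a) = 0 ↔ _
    rw [map_eq_zero_iff _ j.injective, Ideal.algebraMap_residueField_eq_zero]
  let c := Algebra.TensorProduct.cancelBaseChange R SP.Ring R₃ R₃ S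
  let φ₃ : (S →ₐ[R] K) → (R₃ ⊗[R] S →ₐ[R] K) := fun x' ↦
    Algebra.TensorProduct.lift v₃ x' fun _ _ ↦ .all _ _
  let Q : (S →ₐ[R] K) → Ideal (R₃ ⊗[SP.Ring] (SP.Ring ⊗[R] S)) := fun x' ↦
    (RingHom.ker (φ₃ x').toRingHom).comap c.toAlgHom.toRingHom
  have hQ₁ : ∀ x', (Q x').comap (Algebra.TensorProduct.includeRight :
      SP.Ring ⊗[R] S →ₐ[SP.Ring] _).toRingHom = RingHom.ker (φ₂ x').toRingHom := by
    intro x'
    have h : ∀ z, φ₃ x' (c (1 ⊗ₜ z)) = φ₂ x' z := by
      intro z
      induction z using TensorProduct.induction_on with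
      | zero => simp
      | add a b ha hb => simp only [tmul_add, map_add, ha, hb]
      | tmul a b =>
        simp only [c, Algebra.TensorProduct.cancelBaseChange_tmul, φ₃, φ₂,
          Algebra.TensorProduct.lift_tmul, ← Algebra.algebraMap_eq_smul_one, hv₃]
    ext z
    simp only [Q, Ideal.mem_comap, RingHom.mem_ker]
    exact Eq.congr_left (h z)
  have hQ₂ : ∀ x', (Q x').LiesOver P₃ := fun x' ↦ ⟨by
    rw [← hkerv₃]
    ext a
    simp only [Ideal.under, Q, Ideal.mem_comap, RingHom.mem_ker]
    refine Eq.congr_left ?_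
    show v₃ a = φ₃ x' (c (algebraMap R₃ (R₃ ⊗[SP.Ring] (SP.Ring ⊗[R] S)) a))
    rw [AlgEquiv.commutes]
    simp [φ₃]⟩
  have hQprime : ∀ x', (Q x').IsPrime := fun x' ↦ Ideal.comap_isPrime _ _
  have hQx : Q x = P' := by
    have := hQ₂ x
    have := hQprime x
    exact Ideal.eq_of_comap_eq_comap_of_bijective_residueFieldMap hbij _ _
      ((hQ₁ x).trans hP'q.symm)
  let cR : R₃ ⊗[SP.Ring] (SP.Ring ⊗[R] S) ≃ₐ[R₃] R₃ ⊗[R] S := c
  refine ⟨R₃, inferInstance, inferInstance, inferInstance, v₃, c e, he.map c, ?_, ?_, ?_⟩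
  · exact Module.Finite.equiv (IsLocalization.algEquivOfAlgEquiv (M := Submonoid.powers e)
      (T := Submonoid.powers (c e)) (Localization.Away e) (Localization.Away (c e)) cR
      (by simp [Submonoid.map_powers, cR])).toLinearEquiv
  · exact fun h ↦ heP' (hQx ▸ (show e ∈ Q x from h))
  · intro x' hx'
    have := hQ₂ x'
    have hQx' : Q x' = P' := hP'uniq _ (hQprime x') this fun h ↦ hx' h
    have h₂ : RingHom.ker (φ₂ x').toRingHom = q₂ := by rw [← hQ₁, hQx', hP'q]
    refine huniq x' ?_ ?_
    · have : RingHom.ker x'.toRingHom =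
          (RingHom.ker (φ₂ x').toRingHom).comap Algebra.TensorProduct.includeRight.toRingHom := by
        ext a
        simp [φ₂]
      rw [this, h₂, ← hq₂]
    · have hd : (SP.X ⊗ₜ[R] (1 : S) - 1 ⊗ₜ s) ∈ q₂ := by simp [q₂, φ₂, v₂]
      rw [← h₂] at hd
      simp [φ₂, v₂] at hd
      exact (sub_eq_zero.mp hd).symm

end Groth.Agent.Weighting
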