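import Groth.Prelude.Def_MoreMor
import Mathlib.AlgebraicGeometry.Morphisms.QuasiFinite
import Mathlib.AlgebraicGeometry.PullbackCarrier
import Mathlib.FieldTheory.SeparableDegree

/-!
# Fibre integrals as sums over geometric points

For a geometric point `y : Spec K ⟶ V` the fibre integral of `w` along a locally quasi-finite
`π : U ⟶ V` at the image of `y` is the sum of `w` over the lifts of `y` to `U`.
-/

set_option autoImplicit false

universe u

open CategoryTheory CategoryTheory.Limits AlgebraicGeometry IsLocalRing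

namespace Groth.Agent.Weighting

variable {U V : Scheme.{u}} {K : Type u} [Field K]

/-- The image of a `K`-valued point. -/
noncomputable abbrev pt (x : Spec (.of K) ⟶ U) : U := x (closedPoint K)

/-- The lifts of a `K`-valued point of the target. -/
abbrev GPts (π : U ⟶ V) (y : Spec (.of K) ⟶ V) : Type u :=
  {x : Spec (.of K) ⟶ U // x ≫ π = y}

lemma pt_comp (x : Spec (.of K) ⟶ U) (π : U ⟶ V) : pt (x ≫ π) = π (pt x) := rfl

lemma GPts.map_pt {π : U ⟶ V} {y : Spec (.of K) ⟶ V} (x : GPts π y) : π (pt x.1) = pt y := by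
  rw [← pt_comp, x.2]

/-- A geometric point above a point. -/
lemma exists_geomPoint (v : V) :
    ∃ (K : Type u) (_ : Field K) (_ : IsAlgClosed K) (y : Spec (.of K) ⟶ V), pt y = v := by
  refine ⟨AlgebraicClosure (V.residueField v), inferInstance, inferInstance,
    Spec.map (CommRingCat.ofHom
      (algebraMap (V.residueField v) (AlgebraicClosure (V.residueField v)))) ≫
        V.fromSpecResidueField v, Scheme.fromSpecResidueField_apply v _⟩

lemma residueField_finite (π : U ⟶ V) [LocallyQuasiFinite π] (u : U) :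
    letI := (π.residueFieldMap u).hom.toAlgebra
    Module.Finite (V.residueField (π u)) (U.residueField u) := by
  let φ := π.residueFieldMap u
  have h1 : (U.residue u).hom.QuasiFinite :=
    .of_finite (RingHom.Finite.of_surjective _ (U.residue_surjective u))
  have h2 : ((U.residue u).hom.comp (π.stalkMap u).hom).QuasiFinite :=
    h1.comp (π.quasiFiniteAt u)
  rw [← CommRingCat.hom_comp, ← Scheme.residue_residueFieldMap, CommRingCat.hom_comp] at h2
  let _ := φ.hom.toAlgebra
  have : Algebra.QuasiFinite (V.residueField (π u)) (U.residueField u) :=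
    RingHom.QuasiFinite.of_comp h2
  exact .of_quasiFinite

/-- The lifts of `y` through a given point `u` are the algebra maps of residue fields. -/
lemma natCard_algHom_eq (π : U ⟶ V) (y : Spec (.of K) ⟶ V) (u : U) (hu : π u = pt y) :
    letI := (π.residueFieldMap u).hom.toAlgebra
    letI := ((V.residueFieldCongr hu).hom ≫
      V.descResidueField (Scheme.stalkClosedPointTo y)).hom.toAlgebra
    Nat.card (U.residueField u →ₐ[V.residueField (π u)] K) =
      Nat.card {x : GPts π y // pt x.1 = u} := by
  let a := (π.residueFieldMap u).hom.toAlgebra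
  let b : V.residueField (π u) ⟶ .of K :=
    (V.residueFieldCongr hu).hom ≫ V.descResidueField (Scheme.stalkClosedPointTo y)
  let b' := b.hom.toAlgebra
  have hb : Spec.map b ≫ V.fromSpecResidueField (π u) = y := by
    rw [Spec.map_comp, Category.assoc, Scheme.residueFieldCongr_fromSpecResidueField,
      Scheme.descResidueField_stalkClosedPointTo_fromSpecResidueField]
  have hF : ∀ φ : U.residueField u →ₐ[V.residueField (π u)] K,
      (Spec.map (CommRingCat.ofHom φ.toRingHom) ≫ U.fromSpecResidueField u) ≫ π = y ∧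
      pt (Spec.map (CommRingCat.ofHom φ.toRingHom) ≫ U.fromSpecResidueField u) = u := by
    intro φ
    refine ⟨?_, Scheme.fromSpecResidueField_apply u _⟩
    have h : π.residueFieldMap u ≫ CommRingCat.ofHom φ.toRingHom = b :=
      CommRingCat.hom_ext φ.comp_algebraMap
    rw [Category.assoc, ← π.SpecMap_residueFieldMap_fromSpecResidueField u, ← Category.assoc]
    exact (congrArg (· ≫ V.fromSpecResidueField (π u))
      ((Spec.map_comp _ _).symm.trans (congrArg Spec.map h))).trans hb
  refine Nat.card_congr (Equiv.ofBijective (fun φ ↦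
    (⟨⟨_, (hF φ).1⟩, (hF φ).2⟩ : {x : GPts π y // pt x.1 = u})) ⟨fun φ φ' h ↦ ?_, ?_⟩)
  · have h' := Spec.map_injective ((cancel_mono _).mp congr(($h).1.1))
    exact AlgHom.coe_ringHom_injective (CommRingCat.hom_ext_iff.mp h')
  · rintro ⟨⟨x, hx⟩, hxu⟩
    let ψ : U.residueField u ⟶ .of K :=
      (U.residueFieldCongr hxu.symm).hom ≫ U.descResidueField (Scheme.stalkClosedPointTo x)
    have hψ : Spec.map ψ ≫ U.fromSpecResidueField u = x := by
      rw [Spec.map_comp, Category.assoc, Scheme.residueFieldCongr_fromSpecResidueField,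
        Scheme.descResidueField_stalkClosedPointTo_fromSpecResidueField]
    have hcomp : π.residueFieldMap u ≫ ψ = b := by
      apply Spec.map_injective
      rw [← cancel_mono (V.fromSpecResidueField (π u)), hb, Spec.map_comp, Category.assoc,
        π.SpecMap_residueFieldMap_fromSpecResidueField u, ← Category.assoc, hψ, hx]
    exact ⟨⟨ψ.hom, fun r ↦ congr(($hcomp).hom r)⟩, Subtype.ext (Subtype.ext hψ)⟩

lemma natCard_lifts [IsAlgClosed K] (π : U ⟶ V) [LocallyQuasiFinite π] (y : Spec (.of K) ⟶ V)
    (u : U) (hu : π u = pt y) :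
    Nat.card {x : GPts π y // pt x.1 = u} =
      (letI := (π.residueFieldMap u).hom.toAlgebra
       Field.finSepDegree (V.residueField (π u)) (U.residueField u)) := by
  let _ := (π.residueFieldMap u).hom.toAlgebra
  let _ := ((V.residueFieldCongr hu).hom ≫
    V.descResidueField (Scheme.stalkClosedPointTo y)).hom.toAlgebra
  have := residueField_finite π u
  rw [Field.finSepDegree_eq_of_isAlgClosed (V.residueField (π u)) (U.residueField u) K]
  exact (natCard_algHom_eq π y u hu).symm

lemma finite_lifts [IsAlgClosed K] (π : U ⟶ V) [LocallyQuasiFinite π] (y : Spec (.of K) ⟶ V)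
    (u : U) : Finite {x : GPts π y // pt x.1 = u} := by
  by_cases hu : π u = pt y
  · refine (Nat.card_ne_zero.mp ?_).2
    rw [natCard_lifts π y u hu]
    let _ := (π.residueFieldMap u).hom.toAlgebra
    have := residueField_finite π u
    exact NeZero.ne _
  · exact @Finite.of_subsingleton _ ⟨fun x _ ↦ (hu (x.2 ▸ x.1.map_pt)).elim⟩

lemma exists_lift [IsAlgClosed K] (π : U ⟶ V) [LocallyQuasiFinite π] (y : Spec (.of K) ⟶ V)
    (u : U) (hu : π u = pt y) : ∃ x : GPts π y, pt x.1 = u := by
  let _ := (π.residueFieldMap u).hom.toAlgebra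
  have := residueField_finite π u
  have h : Nat.card {x : GPts π y // pt x.1 = u} ≠ 0 := by
    rw [natCard_lifts π y u hu]; exact NeZero.ne _
  obtain ⟨⟨x, hx⟩⟩ := (Nat.card_ne_zero.mp h).1
  exact ⟨x, hx⟩

lemma finite_gpts [IsAlgClosed K] (π : U ⟶ V) [LocallyQuasiFinite π] (y : Spec (.of K) ⟶ V)
    (h : (π ⁻¹' {pt y}).Finite) : Finite (GPts π y) := by
  have : Finite (π ⁻¹' {pt y}) := h
  have := fun u : π ⁻¹' {pt y} ↦ finite_lifts π y u.1
  exact Finite.of_surjective
    (fun p : Σ u : π ⁻¹' {pt y}, {x : GPts π y // pt x.1 = u.1} ↦ p.2.1)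
    fun x ↦ ⟨⟨⟨pt x.1, x.map_pt⟩, x, rfl⟩, rfl⟩

/-- The fibre integral is the sum over geometric points. -/
theorem fibreIntegral_eq [IsAlgClosed K] (π : U ⟶ V) [LocallyQuasiFinite π] (w : U → ℤ)
    (y : Spec (.of K) ⟶ V) (v : V) (hv : pt y = v) (hfin : (π ⁻¹' {v}).Finite) :
    MoreMor.fibreIntegral π w v = ∑ᶠ x : GPts π y, w (pt x.1) := by
  classical
  subst hv
  have := finite_gpts π y hfin
  have : Finite {u : U // π u = pt y} := hfin
  let := Fintype.ofFinite {u : U // π u = pt y}
  let := Fintype.ofFinite (GPts π y)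
  let p : GPts π y → {u : U // π u = pt y} := fun x ↦ ⟨pt x.1, x.map_pt⟩
  rw [MoreMor.fibreIntegral, finsum_eq_sum_of_fintype, finsum_eq_sum_of_fintype,
    ← Finset.sum_fiberwise Finset.univ p]
  refine Finset.sum_congr rfl fun u _ ↦ ?_
  have hc : ∀ x ∈ Finset.univ.filter (fun x ↦ p x = u), w (pt x.1) = w u.1 := by
    intro x hx
    rw [← (Finset.mem_filter.mp hx).2]
  rw [Finset.sum_congr rfl hc, Finset.sum_const, nsmul_eq_mul, mul_comm]
  congr 2
  rw [← natCard_lifts π y u.1 u.2, ← Fintype.card_subtype, ← Nat.card_eq_fintype_card]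
  exact Nat.card_congr (Equiv.subtypeEquivRight fun x ↦ by simp [p, Subtype.ext_iff])

end Groth.Agent.Weighting
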